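import Mathlib
import Cfsg.Agent.Solvable.Glauberman
import Cfsg.Agent.Mrg.Omega.NOne.SU.Defs
import Cfsg.Agent.Mrg.Omega.NOne.SU.Grp1

section


/-!
# The residue `{0, 1}` of the closing of NO-1' (β), q ≥ 4: the points of a plane are `X`-invariant

`R ≤ V`, `C = N(R)`, `N = N(V)`, `X ⊴ N` transitive on the points `x R x⁻¹` of `V`, `n ∈ X - C`.  A set `Λ ⊆ C` is the set of
the elements `h` such that the line `h V h⁻¹` through `R` lies in a totally isotropic line `ℓ` of `Q / R` (which contains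
the point given by `V`).  `Inv.inv` : the set of the points `h x R (h x)⁻¹` (`h ∈ Λ`, `x ∈ X`) is invariant under `X`.

(#13663 (1)-(4) of helper802, #13971 (K5) of helper301.)
-/

set_option autoImplicit false

namespace Cfsg.Agent.Omega.NO1U

open Subgroup

variable {G : Type*} [Group G]

/-- The data which do not depend on `ℓ`.  `T` : the torus, `Y = C_Q(V) C_{Q'}(V)`. -/
structure Base (R V X Q Y T : Subgroup G) (n : G) : Prop where
  RV : R ≤ V
  XN : X ≤ normalizer (V : Set G)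
  nX : n ∈ X
  nC : n ∉ normalizer (R : Set G)
  /-- `N = X (N ∩ C)` -/
  NX : ∀ m ∈ normalizer (V : Set G), ∃ x ∈ X, ∃ c ∈ normalizer (R : Set G), m = x * c
  QX : Q ≤ X
  QC : Q ≤ normalizer (R : Set G)
  /-- `Q ⊴ C` -/
  CQ : ∀ c ∈ normalizer (R : Set G), ∀ u ∈ Q, c * u * c⁻¹ ∈ Q
  /-- `Q` is transitive on the points `≠ R` of `V` -/
  Qtr : ∀ x ∈ X, x ∉ normalizer (R : Set G) → ∃ u ∈ Q, (u * n)⁻¹ * x ∈ normalizer (R : Set G)
  YX : Y ≤ X
  YV : Y ≤ centralizer (V : Set G)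
  nY : ∀ y ∈ Y, n * y * n⁻¹ ∈ Y
  Yp : IsPGroup 2 Y
  TX : T ≤ X
  TC : T ≤ normalizer (R : Set G)
  TY : T ≤ normalizer (Y : Set G)
  Todd : (Nat.card T).Coprime 2
  nT : ∀ t ∈ T, n * t * n⁻¹ ∈ T
  /-- `C_Y(T) = 1` -/
  YT : ∀ y ∈ Y, (∀ t ∈ T, t * y = y * t) → y = 1
  /-- `[X, C(V)] ≤ Y` -/
  comm : ∀ x ∈ X, ∀ g ∈ centralizer (V : Set G), x * g * x⁻¹ * g⁻¹ ∈ Y

/-- The set `Λ` of the `h ∈ C` which move the point of `Q / R` given by `V` into a totally isotropic line `ℓ` through it. -/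
structure Line (R V X Q Y : Subgroup G) (n : G) (Λ : Set G) : Prop where
  one : (1 : G) ∈ Λ
  C : Λ ⊆ normalizer (R : Set G)
  mul : ∀ h ∈ Λ, ∀ m ∈ normalizer (R : Set G), m ∈ normalizer (V : Set G) → h * m ∈ Λ
  X : ∀ x ∈ X, x ∈ normalizer (R : Set G) → ∀ h ∈ Λ, x * h ∈ Λ
  /-- `Y` is transitive on the points `≠ e` of `ℓ` -/
  Ytr : ∀ h ∈ Λ, h ∉ normalizer (V : Set G) → ∀ h' ∈ Λ, h' ∉ normalizer (V : Set G) →
    ∃ y ∈ Y, h⁻¹ * (y * h') ∈ normalizer (V : Set G)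
  /-- `h V h⁻¹` centralises `V` -/
  cen : ∀ h ∈ Λ, h ∉ normalizer (V : Set G) → ∀ v ∈ V, h * v * h⁻¹ ∈ centralizer (V : Set G)
  /-- `Q = (Y ∩ Q) C_Q(h V h⁻¹)` -/
  cov : ∀ h ∈ Λ, h ∉ normalizer (V : Set G) → ∀ u ∈ Q, ∃ y ∈ Y, h⁻¹ * (y⁻¹ * u) * h ∈ centralizer (V : Set G)
  /-- a point `≠ R` of `h V h⁻¹` meets `Y` trivially -/
  disj : ∀ h ∈ Λ, h ∉ normalizer (V : Set G) → ∀ r ∈ R, h * (n * r * n⁻¹) * h⁻¹ ∈ Y → r = 1

/-- the elements which move `R` to a point of the union -/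
def Pts (R X : Subgroup G) (Λ : Set G) : Set G :=
  {g | ∃ h ∈ Λ, ∃ x ∈ X, ∃ c ∈ normalizer (R : Set G), g = h * x * c}

theorem centralizer_le_normalizer' {V : Subgroup G} : centralizer (V : Set G) ≤ normalizer (V : Set G) := by
  intro g hg
  rw [Subgroup.mem_normalizer_iff]
  intro x
  rw [Subgroup.mem_centralizer_iff] at hg
  constructor
  · intro hx
    have := hg x hx
    have e : g * x * g⁻¹ = x := by rw [← this]; group
    rw [e]; exact hx
  · intro hx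
    have := hg _ hx
    have e : g * x * g⁻¹ = x := by
      have h2 : g * x * g⁻¹ * g = g * (g * x * g⁻¹) := this
      have h3 : g * x = g * (g * x * g⁻¹) := by rw [← h2]; group
      exact (mul_left_cancel h3).symm
    rw [e] at hx; exact hx

namespace Base

variable {R V X Q Y T : Subgroup G} {n : G} (D : Base R V X Q Y T n)

include D

theorem VC (g : G) (hg : g ∈ centralizer (V : Set G)) : g ∈ normalizer (R : Set G) := by
  apply centralizer_le_normalizer'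
  rw [Subgroup.mem_centralizer_iff] at hg ⊢
  exact fun r hr => hg r (D.RV hr)

theorem YC : Y ≤ normalizer (R : Set G) := fun y hy => D.VC y (D.YV hy)

/-- `C(V)` is normalised by `N(V)` -/
theorem conjC {m g : G} (hm : m ∈ normalizer (V : Set G)) (hg : g ∈ centralizer (V : Set G)) :
    m * g * m⁻¹ ∈ centralizer (V : Set G) := by
  rw [Subgroup.mem_centralizer_iff] at hg ⊢
  intro v hv
  have h1 : m⁻¹ * v * m ∈ V := by
    have := (Subgroup.mem_normalizer_iff.1 (inv_mem hm) v).1 hv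
    rwa [inv_inv] at this
  have h2 := hg _ h1
  calc v * (m * g * m⁻¹) = m * ((m⁻¹ * v * m) * g) * m⁻¹ := by group
    _ = m * (g * (m⁻¹ * v * m)) * m⁻¹ := by rw [h2]
    _ = m * g * m⁻¹ * v := by group

theorem conjC' {m g : G} (hm : m ∈ normalizer (V : Set G)) (hg : g ∈ centralizer (V : Set G)) :
    m⁻¹ * g * m ∈ centralizer (V : Set G) := by
  have := D.conjC (inv_mem hm) hg
  rwa [inv_inv] at this

theorem nN : n ∈ normalizer (V : Set G) := D.XN D.nX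

/-- one line: `Y` is transitive on the points `≠ R` of `h V h⁻¹` -/
theorem key {Λ : Set G} (L : Line R V X Q Y n Λ) {h x : G} (hh : h ∈ Λ) (hN : h ∉ normalizer (V : Set G))
    (hx : x ∈ X) (hxC : x ∉ normalizer (R : Set G)) :
    ∃ y ∈ Y, ∃ c ∈ normalizer (R : Set G), h * x = y * (h * n) * c := by
  obtain ⟨u, hu, hc⟩ := D.Qtr x hx hxC
  have hu' : h * u * h⁻¹ ∈ Q := D.CQ h (L.C hh) u hu
  obtain ⟨y, hy, hcen⟩ := L.cov h hh hN _ hu'
  refine ⟨y, hy, n⁻¹ * (h⁻¹ * (y⁻¹ * (h * u * h⁻¹)) * h) * n * ((u * n)⁻¹ * x), mul_mem ?_ hc, by group⟩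
  exact D.VC _ (D.conjC' D.nN hcen)

/-- `Y` is transitive on the points off `V` -/
theorem key₂ {Λ : Set G} (L : Line R V X Q Y n Λ) {h₀ : G} (h₀Λ : h₀ ∈ Λ) (h₀N : h₀ ∉ normalizer (V : Set G))
    {h x : G} (hh : h ∈ Λ) (hN : h ∉ normalizer (V : Set G)) (hx : x ∈ X) (hxC : x ∉ normalizer (R : Set G)) :
    ∃ y ∈ Y, ∃ c ∈ normalizer (R : Set G), h * x = y * (h₀ * n) * c := by
  obtain ⟨y, hy, c, hc, e⟩ := D.key L hh hN hx hxC
  obtain ⟨y', hy', hm⟩ := L.Ytr h₀ h₀Λ h₀N h hh hN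
  -- `h = y'⁻¹ h₀ m`, `m ∈ N ∩ C`
  set m := h₀⁻¹ * (y' * h) with hmdef
  have hmC : m ∈ normalizer (R : Set G) :=
    mul_mem (inv_mem (L.C h₀Λ)) (mul_mem (D.YC hy') (L.C hh))
  obtain ⟨x', hx', c', hc', e'⟩ := D.NX _ (mul_mem hm D.nN)
  have hx'C : x' ∉ normalizer (R : Set G) := by
    intro hcon
    apply D.nC
    have e2 : n = m⁻¹ * (x' * c') := by rw [← e']; group
    rw [e2]
    exact mul_mem (inv_mem hmC) (mul_mem hcon hc')
  obtain ⟨y'', hy'', c'', hc'', e''⟩ := D.key L h₀Λ h₀N hx' hx'C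
  refine ⟨y * (y'⁻¹ * y''), mul_mem hy (mul_mem (inv_mem hy') hy''), c'' * c' * c, mul_mem (mul_mem hc'' hc') hc, ?_⟩
  calc h * x = y * (h * n) * c := e
    _ = y * (y'⁻¹ * (h₀ * (m * n))) * c := by rw [hmdef]; group
    _ = y * (y'⁻¹ * (h₀ * (x' * c'))) * c := by rw [e']
    _ = y * (y'⁻¹ * ((h₀ * x') * c')) * c := by group
    _ = y * (y'⁻¹ * ((y'' * (h₀ * n) * c'') * c')) * c := by rw [e'']
    _ = y * (y'⁻¹ * y'') * (h₀ * n) * (c'' * c' * c) := by group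

/-- `n` fixes a point of `Pts` which is not on `V` -/
theorem exists_fixed [Finite G] {Λ : Set G} (L : Line R V X Q Y n Λ) {h₀ : G} (h₀Λ : h₀ ∈ Λ)
    (h₀N : h₀ ∉ normalizer (V : Set G)) :
    ∃ y ∈ Y, (y * (h₀ * n))⁻¹ * (n * (y * (h₀ * n))) ∈ normalizer (R : Set G) := by
  -- `T` preserves the orbit of `h₀ n C` under `Y`
  have hYs : Group.IsSolvable Y := by
    have := D.Yp.isNilpotent
    infer_instance
  have hcop : (Nat.card T).Coprime (Nat.card Y) := by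
    obtain ⟨k, hk⟩ := (IsPGroup.iff_card (p := 2)).1 D.Yp
    rw [hk]
    exact Nat.Coprime.pow_right k D.Todd
  have horb : ∀ t ∈ T, ∃ k ∈ Y, t • ((h₀ * n : G) : G ⧸ normalizer (R : Set G)) =
      k • ((h₀ * n : G) : G ⧸ normalizer (R : Set G)) := by
    intro t ht
    have h1 := L.X t (D.TX ht) (D.TC ht) h₀ h₀Λ
    have hnot : t * h₀ ∉ normalizer (V : Set G) := by
      intro hcon
      apply h₀N
      have e : h₀ = t⁻¹ * (t * h₀) := by group
      rw [e]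
      exact mul_mem (inv_mem (D.XN (D.TX ht))) hcon
    obtain ⟨y, hy, c, hc, e⟩ := D.key₂ L h₀Λ h₀N h1 hnot D.nX D.nC
    refine ⟨y, hy, ?_⟩
    change ((t * (h₀ * n) : G) : G ⧸ normalizer (R : Set G)) = ((y * (h₀ * n) : G) : G ⧸ normalizer (R : Set G))
    rw [← mul_assoc t, e, QuotientGroup.eq]
    have e2 : (y * (h₀ * n) * c)⁻¹ * (y * (h₀ * n)) = c⁻¹ := by group
    rw [e2]; exact inv_mem hc
  obtain ⟨y, hy, hfix⟩ := Solvable.Glauberman.exists_smul_fixed T Y D.TY hcop (Or.inr hYs)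
    ((h₀ * n : G) : G ⧸ normalizer (R : Set G)) horb
  refine ⟨y, hy, ?_⟩
  -- `g = h₁ n`, `h₁ = y h₀ ∈ Λ`
  set g := y * (h₀ * n) with hg
  have hTg : ∀ t ∈ T, g⁻¹ * t * g ∈ normalizer (R : Set G) := by
    intro t ht
    have h1 := hfix t ht
    have h1 : ((t * (y * (h₀ * n)) : G) : G ⧸ normalizer (R : Set G)) = ((y * (h₀ * n) : G) : G ⧸ normalizer (R : Set G)) := h1
    rw [eq_comm, QuotientGroup.eq] at h1
    have e : g⁻¹ * t * g = (y * (h₀ * n))⁻¹ * (t * (y * (h₀ * n))) := by rw [hg]; group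
    rw [e]; exact h1
  have h₁Λ : y * h₀ ∈ Λ := L.X y (D.YX hy) (D.YC hy) h₀ h₀Λ
  have h₁N : y * h₀ ∉ normalizer (V : Set G) := by
    intro hcon
    apply h₀N
    have e : h₀ = y⁻¹ * (y * h₀) := by group
    rw [e]
    exact mul_mem (inv_mem (D.XN (D.YX hy))) hcon
  have hR3 : ∀ r ∈ R, g * r * g⁻¹ ∈ centralizer (V : Set G) := by
    intro r hr
    have h1 : n * r * n⁻¹ ∈ V := (Subgroup.mem_normalizer_iff.1 D.nN r).1 (D.RV hr)
    have h2 := L.cen _ h₁Λ h₁N _ h1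
    have e : g * r * g⁻¹ = y * h₀ * (n * r * n⁻¹) * (y * h₀)⁻¹ := by rw [hg]; group
    rw [e]; exact h2
  have hdisj : ∀ r ∈ R, g * r * g⁻¹ ∈ Y → r = 1 := by
    intro r hr h1
    apply L.disj _ h₁Λ h₁N r hr
    have e : y * h₀ * (n * r * n⁻¹) * (y * h₀)⁻¹ = g * r * g⁻¹ := by rw [hg]; group
    rw [e]; exact h1
  -- `T` centralises `R₃ = g R g⁻¹`
  have hTR : ∀ t ∈ T, ∀ r ∈ R, t * (g * r * g⁻¹) * t⁻¹ = g * r * g⁻¹ := by
    intro t ht r hr
    have h1 : t * (g * r * g⁻¹) * t⁻¹ * (g * r * g⁻¹)⁻¹ ∈ Y := D.comm t (D.TX ht) _ (hR3 r hr)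
    have h2 : (g⁻¹ * t * g) * r * (g⁻¹ * t * g)⁻¹ ∈ R := (Subgroup.mem_normalizer_iff.1 (hTg t ht) r).1 hr
    have h3 := hdisj _ (mul_mem h2 (inv_mem hr)) (by
      have e : g * ((g⁻¹ * t * g) * r * (g⁻¹ * t * g)⁻¹ * r⁻¹) * g⁻¹ =
          t * (g * r * g⁻¹) * t⁻¹ * (g * r * g⁻¹)⁻¹ := by group
      rw [e]; exact h1)
    have h4 : (g⁻¹ * t * g) * r * (g⁻¹ * t * g)⁻¹ = r := mul_inv_eq_one.1 h3
    calc t * (g * r * g⁻¹) * t⁻¹ = g * ((g⁻¹ * t * g) * r * (g⁻¹ * t * g)⁻¹) * g⁻¹ := by group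
      _ = g * r * g⁻¹ := by rw [h4]
  have hTR' : ∀ t ∈ T, ∀ r ∈ R, t * (g * r * g⁻¹) = g * r * g⁻¹ * t := fun t ht r hr => by
    have := hTR t ht r hr
    rwa [mul_inv_eq_iff_eq_mul] at this
  -- `n` normalises `R₃`
  have hnR : ∀ r ∈ R, (g⁻¹ * (n * g)) * r * (g⁻¹ * (n * g))⁻¹ ∈ R := by
    intro r hr
    have h1 : n * (g * r * g⁻¹) * n⁻¹ * (g * r * g⁻¹)⁻¹ ∈ Y := D.comm n D.nX _ (hR3 r hr)
    -- it commutes with `T`
    have h2 : ∀ t ∈ T, t * (n * (g * r * g⁻¹) * n⁻¹) = n * (g * r * g⁻¹) * n⁻¹ * t := by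
      intro t ht
      -- `n⁻¹ t n ∈ T`
      have h3 : n⁻¹ * t * n ∈ T := by
        have hfin : ∀ t ∈ T, n⁻¹ * t * n ∈ T := by
          have hle : T.map (MulAut.conj n).toMonoidHom ≤ T := by
            rintro _ ⟨t, ht, rfl⟩
            exact D.nT t ht
          have hcard : Nat.card T ≤ Nat.card (T.map (MulAut.conj n).toMonoidHom) := by
            rw [Subgroup.card_map_of_injective (MulAut.conj n).injective]
          have heq := Subgroup.eq_of_le_of_card_ge hle hcard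
          intro t ht
          rw [← heq] at ht
          obtain ⟨s, hs, rfl⟩ := ht
          have e : n⁻¹ * (MulAut.conj n).toMonoidHom s * n = s := by
            change n⁻¹ * (n * s * n⁻¹) * n = s
            group
          rw [e]; exact hs
        exact hfin t ht
      have h4 := hTR' _ h3 r hr
      calc t * (n * (g * r * g⁻¹) * n⁻¹) = n * ((n⁻¹ * t * n) * (g * r * g⁻¹)) * n⁻¹ := by group
        _ = n * (g * r * g⁻¹ * (n⁻¹ * t * n)) * n⁻¹ := by rw [h4]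
        _ = n * (g * r * g⁻¹) * n⁻¹ * t := by group
    have h5 := D.YT _ h1 (by
      intro t ht
      have h6 := h2 t ht
      have h7 := hTR' t ht r hr
      calc t * (n * (g * r * g⁻¹) * n⁻¹ * (g * r * g⁻¹)⁻¹)
          = (t * (n * (g * r * g⁻¹) * n⁻¹)) * (g * r * g⁻¹)⁻¹ := by group
        _ = n * (g * r * g⁻¹) * n⁻¹ * t * (g * r * g⁻¹)⁻¹ := by rw [h6]
        _ = n * (g * r * g⁻¹) * n⁻¹ * (g * r * g⁻¹)⁻¹ * (g * r * g⁻¹ * t) * (g * r * g⁻¹)⁻¹ := by group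
        _ = n * (g * r * g⁻¹) * n⁻¹ * (g * r * g⁻¹)⁻¹ * (t * (g * r * g⁻¹)) * (g * r * g⁻¹)⁻¹ := by rw [h7]
        _ = n * (g * r * g⁻¹) * n⁻¹ * (g * r * g⁻¹)⁻¹ * t := by group)
    rw [mul_inv_eq_one] at h5
    have e : g⁻¹ * (n * g) * r * (g⁻¹ * (n * g))⁻¹ = g⁻¹ * (n * (g * r * g⁻¹) * n⁻¹) * g := by group
    rw [e, h5]
    have e2 : g⁻¹ * (g * r * g⁻¹) * g = r := by group
    rw [e2]; exact hr
  have hle : R.map (MulAut.conj (g⁻¹ * (n * g))).toMonoidHom ≤ R := by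
    rintro _ ⟨r, hr, rfl⟩
    exact hnR r hr
  have heq := Subgroup.eq_of_le_of_card_ge hle (by
    rw [Subgroup.card_map_of_injective (MulAut.conj (g⁻¹ * (n * g))).injective])
  rw [Subgroup.mem_normalizer_iff]
  intro r
  refine ⟨fun hr => hnR r hr, fun hr => ?_⟩
  have hr' : (g⁻¹ * (n * g)) * r * (g⁻¹ * (n * g))⁻¹ ∈ R.map (MulAut.conj (g⁻¹ * (n * g))).toMonoidHom := by
    rw [heq]; exact hr
  obtain ⟨s, hs, he⟩ := hr'
  have he : (g⁻¹ * (n * g)) * s * (g⁻¹ * (n * g))⁻¹ = (g⁻¹ * (n * g)) * r * (g⁻¹ * (n * g))⁻¹ := he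
  have : s = r := by
    have := mul_right_cancel he
    exact mul_left_cancel this
  rw [← this]; exact hs

/-- **the points of the plane given by `ℓ` are invariant under `X`** -/
theorem inv [Finite G] {Λ : Set G} (L : Line R V X Q Y n Λ) {x g : G} (hx : x ∈ X) (hg : g ∈ Pts R X Λ) :
    x * g ∈ Pts R X Λ := by
  by_cases hΛ : ∀ h ∈ Λ, h ∈ normalizer (V : Set G)
  · -- only points of `V`
    obtain ⟨h, hh, x', hx', c, hc, rfl⟩ := hg
    obtain ⟨x'', hx'', c', hc', e⟩ := D.NX _ (mul_mem (D.XN hx) (mul_mem (hΛ h hh) (D.XN hx')))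
    refine ⟨1, L.one, x'', hx'', c' * c, mul_mem hc' hc, ?_⟩
    calc x * (h * x' * c) = x * (h * x') * c := by group
      _ = x'' * c' * c := by rw [e]
      _ = 1 * x'' * (c' * c) := by group
  push Not at hΛ
  obtain ⟨h₀, h₀Λ, h₀N⟩ := hΛ
  obtain ⟨y₀, hy₀, hfix⟩ := D.exists_fixed L h₀Λ h₀N
  -- the set of the `x` which preserve `Pts`
  have hC : ∀ x ∈ X, x ∈ normalizer (R : Set G) → ∀ g ∈ Pts R X Λ, x * g ∈ Pts R X Λ := by
    rintro x hx hxC _ ⟨h, hh, x', hx', c, hc, rfl⟩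
    exact ⟨x * h, L.X x hx hxC h hh, x', hx', c, hc, by group⟩
  have hn : ∀ g ∈ Pts R X Λ, n * g ∈ Pts R X Λ := by
    rintro _ ⟨h, hh, x', hx', c, hc, rfl⟩
    by_cases hN : h ∈ normalizer (V : Set G)
    · obtain ⟨x'', hx'', c', hc', e⟩ := D.NX _ (mul_mem D.nN (mul_mem hN (D.XN hx')))
      refine ⟨1, L.one, x'', hx'', c' * c, mul_mem hc' hc, ?_⟩
      calc n * (h * x' * c) = n * (h * x') * c := by group
        _ = x'' * c' * c := by rw [e]
        _ = 1 * x'' * (c' * c) := by group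
    by_cases hxC : x' ∈ normalizer (R : Set G)
    · exact ⟨1, L.one, n, D.nX, h * x' * c, mul_mem (mul_mem (L.C hh) hxC) hc, by group⟩
    obtain ⟨y, hy, c', hc', e⟩ := D.key₂ L h₀Λ h₀N hh hN hx' hxC
    -- `n y h₀ n = n (y y₀⁻¹) n⁻¹ n (y₀ h₀ n)`
    have h1 : n * (y * y₀⁻¹) * n⁻¹ ∈ Y := D.nY _ (mul_mem hy (inv_mem hy₀))
    refine ⟨n * (y * y₀⁻¹) * n⁻¹ * y₀ * h₀, ?_, n, D.nX,
      (y₀ * (h₀ * n))⁻¹ * (n * (y₀ * (h₀ * n))) * c' * c, mul_mem (mul_mem hfix hc') hc, ?_⟩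
    · exact L.X _ (mul_mem (D.YX h1) (D.YX hy₀)) (mul_mem (D.YC h1) (D.YC hy₀)) _ h₀Λ
    · calc n * (h * x' * c) = n * (h * x') * c := by group
        _ = n * (y * (h₀ * n) * c') * c := by rw [e]
        _ = _ := by group
  by_cases hxC : x ∈ normalizer (R : Set G)
  · exact hC x hx hxC g hg
  · obtain ⟨u, hu, hc⟩ := D.Qtr x hx hxC
    have e : x * g = u * (n * ((u * n)⁻¹ * x * g)) := by group
    rw [e]
    apply hC u (D.QX hu) (D.QC hu)
    apply hn
    exact hC _ (mul_mem (inv_mem (mul_mem (D.QX hu) D.nX)) hx) hc g hg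

end Base

end Cfsg.Agent.Omega.NO1U

end

section


/-!
# NO-1' (β), q ≥ 4: the totally isotropic lines of `Q / R` through `e₀` (fields of `Line`)

`Lam L` = the set of the `h ∈ N(R)` with `h e₀ ≤ L`.
-/

set_option autoImplicit false
set_option linter.unusedSectionVars false
set_option linter.unusedVariables false

open Subgroup
open Cfsg.Agent.Omega.NOne.SU

namespace Cfsg.Agent.Omega.NO1U

variable {G : Type*} [Group G] {k F : Type*} [Field k] [Field F] [Algebra k F] {T : Quad k F}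
  {S : Sylow 2 G} {V R Q Q' : Subgroup G} {v : k → F → k → G} {p p' : G → F}
  {Φ : Type*} [AddCommGroup Φ] [Module F Φ] {φ χ : G → Φ} {hm : Φ → Φ → F}
  {W : Type*} [AddCommGroup W] [Module F W] {w : G → W} {g : W → W → F} {f₀ : W} {ι : Φ →ₗ[F] W}

/-- the elements of `N(R)` which map `F e₀` into `L` -/
def Lam (R : Subgroup G) (v : k → F → k → G) (w : G → W) (L : Submodule F W) : Set G :=
  {c | c ∈ normalizer (R : Set G) ∧ ∀ b, w (c * v 0 b 0 * c⁻¹) ∈ L}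

namespace OutL

variable (h : GIn T S V R Q Q' v p p') (o : Out T V R Q Q' v p φ χ hm w g f₀ ι)
include h o

theorem w_R {r : G} (hr : r ∈ R) : w r = 0 := (o.w_eq r (h.sp.le hr)).2 hr

theorem w_E (a : k) (b : F) : w (v a b 0) = b • w (v 0 1 0) := by
  have h1 : v a b 0 = v a 0 0 * v 0 b 0 := by rw [← h.v_add]; simp
  rw [h1, o.w_mul _ (h.E_le a 0) _ (h.E_le 0 b), w_R h o (h.mem_R.2 ⟨a, rfl⟩), zero_add, o.w_e]

theorem w_one : w 1 = 0 := w_R h o (one_mem _)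

theorem w_inv {x : G} (hx : x ∈ Q) : w x⁻¹ = - w x := by
  have h1 := o.w_mul x hx x⁻¹ (inv_mem hx)
  rw [mul_inv_cancel, w_one h o] at h1
  exact (neg_eq_of_add_eq_zero_right h1.symm).symm

theorem e₀_ne : w (v 0 1 0) ≠ 0 := by
  intro h0
  have := o.g_ef
  rw [h0] at this
  have h1 := o.g_smul 0 0 f₀
  rw [zero_smul, zero_mul] at h1
  rw [h1] at this
  exact zero_ne_one this

theorem g_zero (m : W) : g 0 m = 0 := by
  have h1 := o.g_smul 0 0 m
  rwa [zero_smul, zero_mul] at h1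

theorem g_zero' (m : W) : g m 0 = 0 := by
  rw [o.g_sym 0 m, g_zero h o, map_zero]

theorem g_add' (m u u' : W) : g m (u + u') = g m u + g m u' := by
  rw [o.g_sym (u + u') m, o.g_add, map_add, ← o.g_sym, ← o.g_sym]

theorem g_smul' (s : F) (m u : W) : g m (s • u) = T.sg s * g m u := by
  rw [o.g_sym (s • u) m, o.g_smul, map_mul, ← o.g_sym]

theorem g_neg (m u : W) : g (-m) u = - g m u := by
  have h1 := o.g_add m (-m) u
  rw [add_neg_cancel, g_zero h o] at h1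
  exact (neg_eq_of_add_eq_zero_right h1.symm).symm

theorem g_swap {m u : W} (h0 : g m u = 0) : g u m = 0 := by
  rw [o.g_sym, h0, map_zero]

/-- `x`, `y` commute if `g (w x) (w y) = 0` -/
theorem commute_of {x y : G} (hx : x ∈ Q) (hy : y ∈ Q) (h0 : g (w x) (w y) = 0) : x * y = y * x := by
  have h1 := o.comm x hx y hy
  rw [h0, map_zero, h.v_zero] at h1
  calc x * y = (x * y * x⁻¹ * y⁻¹) * (y * x) := by group
    _ = y * x := by rw [h1, one_mul]

theorem tr_of_commute {x y : G} (hx : x ∈ Q) (hy : y ∈ Q) (h0 : x * y = y * x) : T.tr (g (w x) (w y)) = 0 := by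
  have h1 := o.comm x hx y hy
  have h2 : x * y * x⁻¹ * y⁻¹ = 1 := by
    calc x * y * x⁻¹ * y⁻¹ = (x * y) * (y * x)⁻¹ := by group
      _ = 1 := by rw [h0, mul_inv_cancel]
  rw [h2, ← h.v_zero] at h1
  exact (h.v_eq h1).1.symm

theorem mem_CV_iff {y : G} (hy : y ∈ Q) : y ∈ centralizer (V : Set G) ↔ g (w y) (w (v 0 1 0)) = 0 := by
  rw [← h.p_eq_zero hy, o.p_eq y hy]

/-- an element of `Q` which commutes with all `v 0 b 0` centralises `V` -/
theorem mem_CV_of_commute {y : G} (hy : y ∈ Q) (hc : ∀ b, y * v 0 b 0 = v 0 b 0 * y) :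
    y ∈ centralizer (V : Set G) := by
  rw [mem_CV_iff h o hy]
  apply T.eq_zero_of_tr h.h2
  intro b
  have h1 := tr_of_commute h o hy (h.E_le 0 (T.sg b)) (hc (T.sg b))
  rw [o.w_e, g_smul' h o, T.sg_sg] at h1
  rwa [mul_comm]

theorem w_conj_E {c : G} (hc : c ∈ normalizer (R : Set G)) (a : k) (b : F) :
    w (c * v a b 0 * c⁻¹) = w (c * v 0 b 0 * c⁻¹) := by
  have h1 : v a b 0 = v a 0 0 * v 0 b 0 := by rw [← h.v_add]; simp
  have h2 : c * v a 0 0 * c⁻¹ ∈ R := (mem_normalizer_iff.1 hc _).1 (h.mem_R.2 ⟨a, rfl⟩)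
  have h3 : c * v a b 0 * c⁻¹ = (c * v a 0 0 * c⁻¹) * (c * v 0 b 0 * c⁻¹) := by rw [h1]; group
  rw [h3, o.w_mul _ (h.sp.le h2) _ (h.nor c hc _ (h.E_le 0 b)), w_R h o h2, zero_add]

/-- if `w x = w y` then `w (c x c⁻¹) = w (c y c⁻¹)` -/
theorem w_conj_congr {c x y : G} (hc : c ∈ normalizer (R : Set G)) (hx : x ∈ Q) (hy : y ∈ Q)
    (he : w x = w y) : w (c * x * c⁻¹) = w (c * y * c⁻¹) := by
  have h1 : w (x * y⁻¹) = 0 := by
    rw [o.w_mul x hx _ (inv_mem hy), w_inv h o hy, he, add_neg_cancel]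
  have h2 := (o.w_eq _ (mul_mem hx (inv_mem hy))).1 h1
  have h3 : c * (x * y⁻¹) * c⁻¹ ∈ R := (mem_normalizer_iff.1 hc _).1 h2
  have h4 : c * x * c⁻¹ = (c * (x * y⁻¹) * c⁻¹) * (c * y * c⁻¹) := by group
  rw [h4, o.w_mul _ (h.sp.le h3) _ (h.nor c hc _ hy), w_R h o h3, zero_add]

/-- `c e₀` is a point -/
theorem point {c : G} (hc : c ∈ normalizer (R : Set G)) :
    ∃ m, m ≠ 0 ∧ (∀ b, ∃ s : F, w (c * v 0 b 0 * c⁻¹) = s • m) ∧ ∀ s : F, ∃ b, w (c * v 0 b 0 * c⁻¹) = s • m := by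
  obtain ⟨m, -, -, hm⟩ := o.pt c hc
  choose s hs using hm
  have hinj : Function.Injective s := by
    intro b b' hb
    have h1 : w (c * v 0 b 0 * c⁻¹) = w (c * v 0 b' 0 * c⁻¹) := by rw [hs, hs, hb]
    have h2 := w_conj_congr h o (inv_mem hc) (h.nor c hc _ (h.E_le 0 b)) (h.nor c hc _ (h.E_le 0 b')) h1
    have e : ∀ x : G, c⁻¹ * (c * x * c⁻¹) * c⁻¹⁻¹ = x := fun x => by group
    rw [e, e, o.w_e b, o.w_e b'] at h2
    by_contra hne
    apply sub_ne_zero.2 hne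
    have h3 : (b - b') • w (v 0 1 0) = 0 := by rw [sub_smul, h2, sub_self]
    rcases smul_eq_zero.1 h3 with h4 | h4
    · exact h4
    · exact absurd h4 (e₀_ne h o)
  have := T.finF
  have hsur := Finite.surjective_of_injective hinj
  refine ⟨m, ?_, fun b => ⟨s b, hs b⟩, fun t => ?_⟩
  · rintro rfl
    have h1 : s 0 = s 1 ∨ True := Or.inr trivial
    have h2 := hs 1
    rw [smul_zero] at h2
    have h3 := w_conj_congr h o (inv_mem hc) (h.nor c hc _ (h.E_le 0 1)) (one_mem Q) (by rw [h2, w_one h o])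
    have e : c⁻¹ * (c * v 0 1 0 * c⁻¹) * c⁻¹⁻¹ = v 0 1 0 := by group
    have e2 : c⁻¹ * 1 * c⁻¹⁻¹ = 1 := by group
    rw [e, e2, w_one h o] at h3
    exact e₀_ne h o h3
  · obtain ⟨b, rfl⟩ := hsur t
    exact ⟨b, hs b⟩

/-- `stab`, with any element of the point -/
theorem mem_N {c : G} (hc : c ∈ normalizer (R : Set G)) {b s : F} (hb : b ≠ 0)
    (he : w (c * v 0 b 0 * c⁻¹) = s • w (v 0 1 0)) : c ∈ normalizer (V : Set G) := by
  obtain ⟨m, hm0, h1, h2⟩ := point h o hc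
  obtain ⟨t, ht⟩ := h1 b
  have ht0 : t ≠ 0 := by
    rintro rfl
    rw [zero_smul] at ht
    have h3 := w_conj_congr h o (inv_mem hc) (h.nor c hc _ (h.E_le 0 b)) (one_mem Q) (by rw [ht, w_one h o])
    have e : c⁻¹ * (c * v 0 b 0 * c⁻¹) * c⁻¹⁻¹ = v 0 b 0 := by group
    have e2 : c⁻¹ * 1 * c⁻¹⁻¹ = 1 := by group
    rw [e, e2, w_one h o, o.w_e] at h3
    rcases smul_eq_zero.1 h3 with h4 | h4
    · exact hb h4
    · exact e₀_ne h o h4
  apply o.stab c hc
  obtain ⟨r, hr⟩ := h1 1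
  refine ⟨r * t⁻¹ * s, ?_⟩
  have h3 : m = (t⁻¹ * s) • w (v 0 1 0) := by
    rw [mul_smul, ← he, ht, smul_smul, inv_mul_cancel₀ ht0, one_smul]
  rw [hr, h3, smul_smul, mul_assoc]

/-- elements of `N(R) ∩ N(V)` fix `F e₀` -/
theorem N_e₀ {c : G} (hc : c ∈ normalizer (R : Set G)) (hN : c ∈ normalizer (V : Set G)) (b : F) :
    ∃ a b', c * v 0 b 0 * c⁻¹ = v a b' 0 := by
  have h1 : c * v 0 b 0 * c⁻¹ ∈ V := (mem_normalizer_iff.1 hN _).1 (h.v_mem _ _ _)
  have h2 : c * v 0 b 0 * c⁻¹ ∈ Q := h.nor c hc _ (h.E_le 0 b)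
  obtain ⟨a, b', d, he⟩ := h.v_surj _ h1
  rw [← he] at h2
  have := h.V_Q a b' d h2
  exact ⟨a, b', by rw [← he, this]⟩

theorem lam_mul {L : Submodule F W} {c m : G} (hc : c ∈ Lam R v w L) (hm : m ∈ normalizer (R : Set G))
    (hN : m ∈ normalizer (V : Set G)) : c * m ∈ Lam R v w L := by
  refine ⟨mul_mem hc.1 hm, fun b => ?_⟩
  obtain ⟨a, b', he⟩ := N_e₀ h o hm hN b
  have e : c * m * v 0 b 0 * (c * m)⁻¹ = c * (m * v 0 b 0 * m⁻¹) * c⁻¹ := by group
  rw [e, he, w_conj_E h o hc.1]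
  exact hc.2 b'

theorem lam_one {L : Submodule F W} (hL : w (v 0 1 0) ∈ L) : (1 : G) ∈ Lam R v w L := by
  refine ⟨one_mem _, fun b => ?_⟩
  have e : 1 * v 0 b 0 * 1⁻¹ = v 0 b 0 := by group
  rw [e, o.w_e]
  exact L.smul_mem _ hL

section iso

variable {L : Submodule F W} (hL : w (v 0 1 0) ∈ L) (hiso : ∀ x ∈ L, ∀ y ∈ L, g x y = 0)
include hL hiso

/-- the elements `h V h⁻¹` centralise `V ∩ Q` -/
theorem conj_cen {c : G} (hc : c ∈ Lam R v w L) (b : F) : c⁻¹ * v 0 b 0 * c ∈ centralizer (V : Set G) := by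
  apply mem_CV_of_commute h o (h.nor_inv hc.1 (h.E_le 0 b))
  intro b'
  have h1 : v 0 b 0 * (c * v 0 b' 0 * c⁻¹) = c * v 0 b' 0 * c⁻¹ * v 0 b 0 := by
    apply commute_of h o (h.E_le 0 b) (h.nor c hc.1 _ (h.E_le 0 b'))
    rw [o.w_e]
    exact hiso _ (L.smul_mem _ hL) _ (hc.2 b')
  calc c⁻¹ * v 0 b 0 * c * v 0 b' 0 = c⁻¹ * (v 0 b 0 * (c * v 0 b' 0 * c⁻¹)) * c := by group
    _ = c⁻¹ * (c * v 0 b' 0 * c⁻¹ * v 0 b 0) * c := by rw [h1]
    _ = v 0 b' 0 * (c⁻¹ * v 0 b 0 * c) := by group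

theorem conj_E {c x : G} (hc : c ∈ Lam R v w L) (hx : x ∈ V) (a : k) (b : F) :
    (c * x * c⁻¹) * v a b 0 * (c * x * c⁻¹)⁻¹ = v a b 0 := by
  have h1 := conj_cen h o hL hiso hc b
  have h2 : x * (c⁻¹ * v 0 b 0 * c) = c⁻¹ * v 0 b 0 * c * x := (mem_centralizer_iff.1 h1) x hx
  have h3 : (c * x * c⁻¹) * v 0 b 0 * (c * x * c⁻¹)⁻¹ = v 0 b 0 := by
    calc (c * x * c⁻¹) * v 0 b 0 * (c * x * c⁻¹)⁻¹ = c * (x * (c⁻¹ * v 0 b 0 * c)) * x⁻¹ * c⁻¹ := by group
      _ = c * (c⁻¹ * v 0 b 0 * c * x) * x⁻¹ * c⁻¹ := by rw [h2]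
      _ = v 0 b 0 := by group
  have h4 : (c * x * c⁻¹) * v a 0 0 * (c * x * c⁻¹)⁻¹ = v a 0 0 := by
    have h5 : c⁻¹ * v a 0 0 * c ∈ R := by
      have := (mem_normalizer_iff.1 (inv_mem hc.1) (v a 0 0)).1 (h.mem_R.2 ⟨a, rfl⟩)
      rwa [inv_inv] at this
    have h6 : x * (c⁻¹ * v a 0 0 * c) = c⁻¹ * v a 0 0 * c * x := h.V_comm hx (h.R_le_V h5)
    calc (c * x * c⁻¹) * v a 0 0 * (c * x * c⁻¹)⁻¹ = c * (x * (c⁻¹ * v a 0 0 * c)) * x⁻¹ * c⁻¹ := by group
      _ = c * (c⁻¹ * v a 0 0 * c * x) * x⁻¹ * c⁻¹ := by rw [h6]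
      _ = v a 0 0 := by group
  have h7 : v a b 0 = v a 0 0 * v 0 b 0 := by rw [← h.v_add]; simp
  calc (c * x * c⁻¹) * v a b 0 * (c * x * c⁻¹)⁻¹
      = ((c * x * c⁻¹) * v a 0 0 * (c * x * c⁻¹)⁻¹) * ((c * x * c⁻¹) * v 0 b 0 * (c * x * c⁻¹)⁻¹) := by
        rw [h7]; group
    _ = v a b 0 := by rw [h3, h4, h7]

/-- `h V h⁻¹ ≤ C(V)` -/
theorem cen (hpts : ∀ m ∈ normalizer (V : Set G), (∀ d, ∃ a, m * v 0 0 d * m⁻¹ = v a 0 0) ∨
      ∃ y ∈ Q, ∀ d, ∃ d', m * v 0 0 d * m⁻¹ = y * v 0 0 d' * y⁻¹)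
    {c x : G} (hc : c ∈ Lam R v w L) (hx : x ∈ V) : c * x * c⁻¹ ∈ centralizer (V : Set G) := by
  set u := c * x * c⁻¹ with hu
  have hxR : x ∈ centralizer (R : Set G) := h.CV_le_CR (h.V_le_CV hx)
  have huR : u ∈ centralizer (R : Set G) := by
    rw [mem_centralizer_iff]
    intro r hr
    obtain ⟨a, rfl⟩ := h.mem_R.1 hr
    have := conj_E h o hL hiso hc hx a 0
    rw [← hu, mul_inv_eq_iff_eq_mul] at this
    exact this.symm
  have huN : u ∈ normalizer (V : Set G) := by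
    apply o.stab u (h.CR_le_NR huR)
    refine ⟨1, ?_⟩
    rw [hu, conj_E h o hL hiso hc hx 0 1, one_smul]
  have huE : ∀ a b, u * v a b 0 * u⁻¹ = v a b 0 := fun a b => conj_E h o hL hiso hc hx a b
  -- the action on `v 0 0 d`
  have key : ∀ d : k, d ≠ 0 → ∃ a', u * v 0 0 d * u⁻¹ = v a' 0 d := by
    intro d hd
    obtain ⟨a', b', d', he⟩ := h.v_surj _ ((mem_normalizer_iff.1 huN _).1 (h.v_mem 0 0 d))
    have hd' : d' ≠ 0 := by
      rintro rfl
      have h1 : v 0 0 d = u⁻¹ * v a' b' 0 * u := by rw [he]; group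
      have h2 : u⁻¹ * v a' b' 0 * u = v a' b' 0 := by
        have := huE a' b'
        rw [mul_inv_eq_iff_eq_mul] at this
        rw [mul_assoc, ← this]; group
      rw [h2] at h1
      exact hd (h.v_eq h1).2.2
    -- conjugation of `[y, v 0 0 d]`
    have hp : ∀ y ∈ Q, p (u * y * u⁻¹) * algebraMap k F d' = p y * algebraMap k F d ∧
        T.tr (T.sg (p (u * y * u⁻¹)) * b') + T.nm (p (u * y * u⁻¹)) * d' = T.nm (p y) * d := by
      intro y hy
      have h1 := h.act y hy 0 0 d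
      have h2 := h.act (u * y * u⁻¹) (h.nor u (h.CR_le_NR huR) y hy) a' b' d'
      have h3 : (u * y * u⁻¹) * v a' b' d' * (u * y * u⁻¹)⁻¹ = u * (y * v 0 0 d * y⁻¹) * u⁻¹ := by
        rw [he]; group
      rw [h3, h1] at h2
      have h4 : v (0 + T.tr (T.sg (p y) * 0) + T.nm (p y) * d) (0 + p y * algebraMap k F d) d =
          v (T.nm (p y) * d) (p y * algebraMap k F d) 0 * v 0 0 d := by
        rw [← h.v_add]; simp
      have h5 : u * v (0 + T.tr (T.sg (p y) * 0) + T.nm (p y) * d) (0 + p y * algebraMap k F d) d * u⁻¹ =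
          v (T.nm (p y) * d + a') (p y * algebraMap k F d + b') (0 + d') := by
        have h8 := huE (T.nm (p y) * d) (p y * algebraMap k F d)
        rw [h4, h.v_add, he]
        nth_rewrite 2 [← h8]
        group
      rw [h5] at h2
      obtain ⟨h6, h7, -⟩ := h.v_eq h2
      constructor
      · rw [add_comm b'] at h7
        exact (add_right_cancel h7).symm
      · rw [add_comm _ a', add_assoc] at h6
        exact (add_left_cancel h6).symm
    -- `c = d / d'`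
    obtain ⟨r, hr⟩ : ∃ r : k, r = d * d'⁻¹ := ⟨_, rfl⟩
    have hp' : ∀ y ∈ Q, p (u * y * u⁻¹) = algebraMap k F r * p y := by
      intro y hy
      have h1 := (hp y hy).1
      have h2 : algebraMap k F d' ≠ 0 := (map_ne_zero _).2 hd'
      rw [hr, map_mul, map_inv₀]
      field_simp
      rw [h1]; ring
    have hlin : ∀ l : F, r * T.tr (T.sg l * b') = T.nm l * (d + r * r * d') := by
      intro l
      obtain ⟨y, hy, rfl⟩ := h.p_surj l
      have h1 := (hp y hy).2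
      rw [hp' y hy] at h1
      have h2 : T.nm (algebraMap k F r * p y) = r * r * T.nm (p y) := by
        apply (algebraMap k F).injective
        rw [T.nm_eq, map_mul T.sg, map_mul (algebraMap k F), map_mul (algebraMap k F), T.nm_eq, T.sg_alg]
        ring
      have h3 : T.tr (T.sg (algebraMap k F r * p y) * b') = r * T.tr (T.sg (p y) * b') := by
        have e : T.sg (algebraMap k F r * p y) * b' = r • (T.sg (p y) * b') := by
          rw [map_mul, T.sg_alg, Algebra.smul_def]; ring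
        rw [e, map_smul, smul_eq_mul]
      rw [h2, h3] at h1
      have h4 : (r * r * T.nm (p y) * d') + (r * r * T.nm (p y) * d') = 0 := T.add_selfk (h2 := h.h2) _
      calc r * T.tr (T.sg (p y) * b') = r * T.tr (T.sg (p y) * b') + (r * r * T.nm (p y) * d' + r * r * T.nm (p y) * d') := by
            rw [h4, add_zero]
        _ = T.nm (p y) * d + r * r * T.nm (p y) * d' := by rw [← add_assoc, h1]
        _ = _ := by ring
    -- a zero of the linear form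
    have hconst : d + r * r * d' = 0 := by
      by_contra hne
      -- the map `l ↦ r tr(sg l b')` is not injective
      let L₀ : F →ₗ[k] k :=
        { toFun := fun l => r * T.tr (T.sg l * b')
          map_add' := fun x y => by rw [map_add, add_mul, map_add, mul_add]
          map_smul' := fun s x => by
            have e : T.sg (s • x) * b' = s • (T.sg x * b') := by
              rw [map_smul, smul_mul_assoc]
            rw [e, map_smul, smul_eq_mul, smul_eq_mul, RingHom.id_apply]; ring }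
      have hninj : ¬ Function.Injective L₀ := by
        intro hinj
        have := T.fink
        have h1 := Nat.card_le_card_of_injective _ hinj
        have h2 := T.card
        have h4 := T.four
        rw [h2, pow_two] at h1
        nlinarith
      apply hninj
      rw [injective_iff_map_eq_zero]
      intro l hl
      have hl : r * T.tr (T.sg l * b') = 0 := hl
      rw [hlin] at hl
      by_contra hl0
      rcases mul_eq_zero.1 hl with h1 | h1
      · exact T.nm_ne hl0 h1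
      · exact hne h1
    have hr1 : d' = d := by
      have h1 : d + r * r * d' = d * (1 + d * d'⁻¹) := by rw [hr]; field_simp
      rw [h1] at hconst
      rcases mul_eq_zero.1 hconst with h2 | h2
      · exact absurd h2 hd
      · have h3 : d * d'⁻¹ = 1 := by
          have : (1 : k) + 1 = 0 := T.add_selfk (h2 := h.h2) _
          calc d * d'⁻¹ = (1 + 1) + d * d'⁻¹ := by rw [this, zero_add]
            _ = 1 + (1 + d * d'⁻¹) := by ring
            _ = 1 := by rw [h2, add_zero]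
        exact (mul_inv_eq_one₀ hd').1 h3 |>.symm
    have hb : b' = 0 := by
      have hr1' : r = 1 := by rw [hr, hr1, mul_inv_cancel₀ hd]
      have h1 : ∀ l, T.tr (b' * l) = 0 := by
        intro l
        have h2 := hlin (T.sg l)
        rw [hr1', one_mul, T.sg_sg, one_mul, one_mul, hr1, T.add_selfk (h2 := h.h2), mul_zero] at h2
        rwa [mul_comm]
      exact T.eq_zero_of_tr h.h2 h1
    exact ⟨a', by rw [← he, hb, hr1]⟩
  -- `u` maps `R'` to a point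
  have key2 : ∀ d, u * v 0 0 d * u⁻¹ = v 0 0 d := by
    intro d
    by_cases hd : d = 0
    · rw [hd, h.v_zero]; group
    obtain ⟨a', he⟩ := key d hd
    rcases hpts u huN with h1 | ⟨y, hy, h1⟩
    · obtain ⟨a, h2⟩ := h1 d
      rw [h2] at he
      exact absurd (h.v_eq he).2.2.symm hd
    · obtain ⟨d', h2⟩ := h1 d
      rw [he, h.act y hy] at h2
      obtain ⟨h3, h4, h5⟩ := h.v_eq h2
      rw [← h5] at h3 h4
      have h6 : p y = 0 := by
        rw [zero_add] at h4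
        rcases mul_eq_zero.1 h4.symm with h7 | h7
        · exact h7
        · exact absurd ((map_eq_zero _).1 h7) hd
      rw [h6, T.nm_zero, mul_zero, map_zero, zero_mul, zero_add, zero_add] at h3
      rw [he, h3]
  rw [mem_centralizer_iff]
  intro z hz
  obtain ⟨a, b, d, rfl⟩ := h.v_surj z hz
  have h1 : v a b d = v a b 0 * v 0 0 d := by rw [← h.v_add]; simp
  have h2 : u * v a b d * u⁻¹ = v a b d := by
    calc u * v a b d * u⁻¹ = (u * v a b 0 * u⁻¹) * (u * v 0 0 d * u⁻¹) := by rw [h1]; group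
      _ = v a b d := by rw [huE, key2, h1]
  rw [mul_inv_eq_iff_eq_mul] at h2
  exact h2.symm

end iso

end OutL

end Cfsg.Agent.Omega.NO1U

end
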