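import Cfsg.Agent.Mrg.ParSys.Polar.Flags
import Cfsg.Agent.Mrg.Omega.NOne.SU.HermOut
import Cfsg.Agent.Mrg.Omega.NOne.SU.Defs
import Cfsg.Agent.Mrg.ParSys.Main

section


/-!
# `GIn`, `Fld` ⟹ `Out` and, if `Φ ≠ 0`, `Semi`: `N_G(R)` acts on `W = Q/R` by semilinear similitudes
-/

set_option autoImplicit false

open Subgroup

namespace Cfsg.Agent.Omega.NO1U.SemiOf

open Cfsg.Agent.Omega.NOne.SU

/-- `Semi` for the explicit maps -/
theorem semi_of {G : Type*} [Group G] [Finite G] {k F : Type*} [Field k] [Field F] [Algebra k F]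
    {T : Quad k F} {S : Sylow 2 G} {V R Q Q' : Subgroup G} {v : k → F → k → G} {p p' : G → F}
    {Φ : Type*} [AddCommGroup Φ] [Module F Φ] [Module k Φ] [IsScalarTower k F Φ] [Nontrivial Φ]
    {φ χ : G → Φ} (h : GIn T S V R Q Q' v p p') (sc : Scal h.sp.form) (f : Fld T V R Q Q' v p φ χ)
    [Module F (h.M sc)] (D : (h.uni sc f).Herm) : CSide.Semi R Q (h.prM sc) D.g := by
  intro c hc
  obtain ⟨σ, γ, h0, h1, h2, -⟩ := h.zt_semi sc f D hc
  refine ⟨σ, algebraMap k F γ, fun e => h0 ((map_eq_zero _).1 e), ?_, ?_⟩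
  · intro s x hx y hy hxy
    rw [← h.zt_pr sc hc hx, ← h.zt_pr sc hc hy, hxy]
    exact h1 s _
  · intro x hx y hy
    rw [← h.zt_pr sc hc hx, ← h.zt_pr sc hc hy, h2, Algebra.smul_def]

/-- **`Out` and `Semi`** -/
theorem exists_Out_semi.{u} {G : Type u} [Group G] [Finite G] {k F : Type*} [Field k] [Field F] [Algebra k F]
    {T : Quad k F} {S : Sylow 2 G} {V R Q Q' : Subgroup G} {v : k → F → k → G} {p p' : G → F}
    {Φ : Type*} [AddCommGroup Φ] [Module F Φ] [Module k Φ] [IsScalarTower k F Φ]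
    {φ χ : G → Φ} (h : GIn T S V R Q Q' v p p') (f : Fld T V R Q Q' v p φ χ) :
    ∃ (W : Type u) (_ : AddCommGroup W) (_ : Module F W) (w : G → W) (g : W → W → F) (f₀ : W)
      (ι : Φ →ₗ[F] W) (hm : Φ → Φ → F), Out T V R Q Q' v p φ χ hm w g f₀ ι ∧
      (Nontrivial Φ → CSide.Semi R Q w g) := by
  have : CharP k 2 := CharTwo.of_one_ne_zero_of_two_eq_zero one_ne_zero h.h2
  have := h.finiteM (h.scal f)
  obtain ⟨_, ⟨D⟩⟩ := (h.uni (h.scal f) f).exists_herm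
  exact ⟨_, _, _, _, _, _, _, _, h.out_of (h.scal f) f D, fun _ => semi_of h (h.scal f) f D⟩

end Cfsg.Agent.Omega.NO1U.SemiOf

end

section


/-!
# The group `X = ⟨Q, Q'⟩` acts on `Y / V = Φ ⊗ F²` and on `V` as `SL₂(F)`

`XD.bil'` : `[y', a] = p'(y') φ(a)` for `y' ∈ Q'`, `a ∈ C_Q(V)`.
`XD.Rep y u w` : `y = a b`, `a ∈ C_Q(V)`, `b ∈ C_{Q'}(V)`, `φ a = u`, `χ b = w`.
`XD.mat` : every `x ∈ X` acts by a matrix of determinant one.
-/

set_option autoImplicit false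
set_option linter.unusedVariables false
set_option linter.unusedSectionVars false

open Subgroup
open Cfsg.Agent.Omega.NO1.Beta.Meet Cfsg.Agent.Omega.NOne.SU

namespace Cfsg.Agent.Omega.NO1U

universe u

variable {G : Type u} [Group G] {k F : Type*} [Field k] [Field F] [Algebra k F]
variable {T : Quad k F} {S : Sylow 2 G} {I : Type*} {V : Subgroup G} {Rf Qf : I → Subgroup G} {i j : I}
  {v : k → F → k → G} {p p' : G → F} {Φ : Type*} [AddCommGroup Φ] [Module F Φ] {φ χ : G → Φ}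

/-- `y = a b`, `a ∈ C_Q(V)`, `b ∈ C_{Q'}(V)`, `φ a = u`, `χ b = w` -/
def Rep (V : Subgroup G) (Qf : I → Subgroup G) (i j : I) (φ χ : G → Φ) (y : G) (u w : Φ) : Prop :=
  ∃ a ∈ Qf i ⊓ centralizer (V : Set G), ∃ b ∈ Qf j ⊓ centralizer (V : Set G), y = a * b ∧ φ a = u ∧ χ b = w

namespace XD

variable (D : XD T S V Rf Qf i j v p p' φ χ)
include D

theorem two_inv {w : G} (hw : w ∈ V) : w * w = 1 := by
  obtain ⟨a, b, d, rfl⟩ := D.g.v_surj w hw
  rw [← D.g.v_add]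
  have h2 := GEnd.h2 D.g
  have hk : (2 : k) = 0 := D.g.sp.two
  have ea : a + a = 0 := by rw [← two_mul, hk, zero_mul]
  have eb : b + b = 0 := by rw [← two_mul, h2, zero_mul]
  have ed : d + d = 0 := by rw [← two_mul, hk, zero_mul]
  rw [ea, eb, ed]
  exact GEnd.v_zero D.g

theorem meetV : Qf i ⊓ Qf j ≤ V := GEnd.meet_V D.g

theorem comm_V' {a b : G} (ha : a ∈ Qf i ⊓ centralizer (V : Set G)) (hb : b ∈ Qf j ⊓ centralizer (V : Set G)) :
    a * b * a⁻¹ * b⁻¹ ∈ V := D.M.comm_V D.ne D.meetV ha.1 ha.2 hb.1 hb.2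

theorem negΦ (u : Φ) : -u = u := by
  have h1 : (2 : F) • u = 0 := by rw [GEnd.h2 D.g, zero_smul]
  rw [two_smul] at h1
  exact neg_eq_of_add_eq_zero_left h1

theorem addΦ (u : Φ) : u + u = 0 := by
  have h1 : (2 : F) • u = 0 := by rw [GEnd.h2 D.g, zero_smul]
  rwa [two_smul] at h1

theorem φ_one : φ 1 = 0 := by
  have h1 := D.f.φ_add 1 (one_mem _) (one_mem _) 1 (one_mem _) (one_mem _)
  rw [mul_one] at h1
  exact left_eq_add.mp h1

theorem χ_one : χ 1 = 0 := by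
  have h1 := D.f.χ_add 1 (one_mem _) (one_mem _) 1 (one_mem _) (one_mem _)
  rw [mul_one] at h1
  exact left_eq_add.mp h1

theorem φ_inv {a : G} (ha : a ∈ Qf i) (haC : a ∈ centralizer (V : Set G)) : φ a⁻¹ = φ a := by
  have h1 := D.f.φ_add a ha haC a⁻¹ (inv_mem ha) (inv_mem haC)
  rw [mul_inv_cancel, D.φ_one] at h1
  rw [← D.negΦ (φ a)]
  exact (neg_eq_of_add_eq_zero_right h1.symm).symm

theorem χ_inv {a : G} (ha : a ∈ Qf j) (haC : a ∈ centralizer (V : Set G)) : χ a⁻¹ = χ a := by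
  have h1 := D.f.χ_add a ha haC a⁻¹ (inv_mem ha) (inv_mem haC)
  rw [mul_inv_cancel, D.χ_one] at h1
  rw [← D.negΦ (χ a)]
  exact (neg_eq_of_add_eq_zero_right h1.symm).symm

theorem VC {w : G} (hw : w ∈ V) : w ∈ centralizer (V : Set G) := D.M.V_le_C hw

theorem φ_V {w : G} (hw : w ∈ V) (hQ : w ∈ Qf i) : φ w = 0 := by
  rw [D.f.φ_ker w hQ (D.VC hw)]
  obtain ⟨a, b, d, rfl⟩ := D.g.v_surj w hw
  exact ⟨a, b, by rw [D.g.V_Q _ _ _ hQ]⟩

theorem V_Q' {w : G} (hw : w ∈ V) (hQ : w ∈ Qf j) : ∃ b d, w = v 0 b d := by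
  obtain ⟨a, b, d, rfl⟩ := D.g.v_surj w hw
  have h1 : v a b d = v a 0 0 * v 0 b d := by
    rw [← D.g.v_add, add_zero, zero_add, zero_add]
  have h3 : v a 0 0 ∈ Qf j := by
    have : v a 0 0 = v a b d * (v 0 b d)⁻¹ := by rw [h1]; group
    rw [this]
    exact mul_mem hQ (inv_mem (D.g.E'_le b d))
  have h4 : v a 0 0 ∈ Rf i ⊓ Qf j := ⟨D.g.sp.a_mem a, h3⟩
  rw [D.M.RQj i j D.ne, mem_bot] at h4
  have h5 := (D.g.v_inj _ _ _ h4).1
  exact ⟨b, d, by rw [h5]⟩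

theorem χ_V {w : G} (hw : w ∈ V) (hQ : w ∈ Qf j) : χ w = 0 := by
  obtain ⟨y, hy, hy1⟩ := D.g.p_surj 1
  have h1 := D.f.bil y hy w hQ (D.VC hw)
  rw [hy1, one_smul] at h1
  rw [← h1]
  refine D.φ_V ?_ ?_
  · have h2 : w * y * w⁻¹ * y⁻¹ = w * (y * w⁻¹ * y⁻¹) := by group
    rw [h2]
    exact mul_mem hw (D.M.Q_V' hy (inv_mem hw))
  · have h2 : w * y * w⁻¹ * y⁻¹ = (y * w * y⁻¹ * w⁻¹)⁻¹ := by group
    rw [h2]
    exact inv_mem (D.M.comm_mem hy hQ (D.VC hw)).1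

/-- only the class mod `V` counts -/
theorem φ_congr {a a' : G} (ha : a ∈ Qf i) (haC : a ∈ centralizer (V : Set G)) (ha' : a' ∈ Qf i)
    (haC' : a' ∈ centralizer (V : Set G)) (h : a * a'⁻¹ ∈ V) : φ a = φ a' := by
  have h1 := D.f.φ_add (a * a'⁻¹) (mul_mem ha (inv_mem ha')) (mul_mem haC (inv_mem haC')) a' ha' haC'
  rw [inv_mul_cancel_right, D.φ_V h (mul_mem ha (inv_mem ha')), zero_add] at h1
  exact h1

theorem χ_congr {a a' : G} (ha : a ∈ Qf j) (haC : a ∈ centralizer (V : Set G)) (ha' : a' ∈ Qf j)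
    (haC' : a' ∈ centralizer (V : Set G)) (h : a * a'⁻¹ ∈ V) : χ a = χ a' := by
  have h1 := D.f.χ_add (a * a'⁻¹) (mul_mem ha (inv_mem ha')) (mul_mem haC (inv_mem haC')) a' ha' haC'
  rw [inv_mul_cancel_right, D.χ_V h (mul_mem ha (inv_mem ha')), zero_add] at h1
  exact h1

/-- `φ [y, b] = p(y) χ(b)` -/
theorem bil₁ {y b : G} (hy : y ∈ Qf i) (hb : b ∈ Qf j ⊓ centralizer (V : Set G)) :
    y * b * y⁻¹ * b⁻¹ ∈ Qf i ⊓ centralizer (V : Set G) ∧ φ (y * b * y⁻¹ * b⁻¹) = p y • χ b := by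
  have h1 := D.M.comm_mem hy hb.1 hb.2
  refine ⟨mem_inf.mpr h1, ?_⟩
  rw [← D.φ_inv h1.1 h1.2, ← D.f.bil y hy b hb.1 hb.2]
  congr 1; group

/-- `χ [y', a] = p'(y') φ(a)` -/
theorem bil' {y a : G} (hy : y ∈ Qf j) (ha : a ∈ Qf i ⊓ centralizer (V : Set G)) :
    y * a * y⁻¹ * a⁻¹ ∈ Qf j ⊓ centralizer (V : Set G) ∧ χ (y * a * y⁻¹ * a⁻¹) = p' y • φ a := by
  have h1 := D.M.comm_mem hy ha.1 ha.2
  refine ⟨mem_inf.mpr h1, ?_⟩
  by_cases h0 : p' y = 0
  · have hyC := (GEnd.mem_C' D.g hy).mpr h0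
    have h2 : y * a * y⁻¹ * a⁻¹ ∈ V := D.M.comm_V D.ne D.meetV hy hyC ha.1 ha.2
    rw [D.χ_V h2 h1.1, h0, zero_smul]
  · obtain ⟨z, hz, hpz⟩ := D.g.p_surj (p' y)⁻¹
    have hpz0 : p z ≠ 0 := by rw [hpz]; exact inv_ne_zero h0
    have hm := (GEnd.match_iff D.g D.Rj hz hy hpz0).mpr (by rw [hpz, inv_inv])
    have h2 := D.M.surj_V D.ne D.meetV hz hy hm ha.1 ha.2
    obtain ⟨h3, h4⟩ := D.bil₁ hz (mem_inf.mpr h1)
    have h5 := D.φ_congr h3.1 h3.2 ha.1 ha.2 h2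
    rw [h4, hpz] at h5
    rw [← h5, smul_smul, mul_inv_cancel₀ h0, one_smul]

/-! ### coordinates on `Y` -/

theorem rep_mul {y y' : G} {u w u' w' : Φ} (h : Rep V Qf i j φ χ y u w) (h' : Rep V Qf i j φ χ y' u' w') :
    Rep V Qf i j φ χ (y * y') (u + u') (w + w') := by
  obtain ⟨a, ha, b, hb, rfl, rfl, rfl⟩ := h
  obtain ⟨a', ha', b', hb', rfl, rfl, rfl⟩ := h'
  -- `b a' = a' z b`, `z ∈ V`
  have hz : a'⁻¹ * b * a' * b⁻¹ ∈ V := by
    have h1 := D.comm_V' (mem_inf.mpr ⟨inv_mem ha'.1, inv_mem ha'.2⟩) hb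
    rwa [inv_inv] at h1
  obtain ⟨α, β, δ, e⟩ := D.g.v_surj _ hz
  have e1 : v α β δ = v α β 0 * v 0 0 δ := by
    rw [← D.g.v_add, add_zero, add_zero, zero_add]
  have m1 : v α β 0 ∈ Qf i ⊓ centralizer (V : Set G) := mem_inf.mpr ⟨D.g.E_le _ _, D.VC (D.g.v_mem _ _ _)⟩
  have m2 : v 0 0 δ ∈ Qf j ⊓ centralizer (V : Set G) := mem_inf.mpr ⟨D.g.E'_le _ _, D.VC (D.g.v_mem _ _ _)⟩
  refine ⟨a * a' * v α β 0, mul_mem (mul_mem ha ha') m1, v 0 0 δ * b * b', mul_mem (mul_mem m2 hb) hb', ?_, ?_, ?_⟩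
  · calc a * b * (a' * b') = a * a' * (a'⁻¹ * b * a' * b⁻¹) * b * b' := by group
      _ = a * a' * (v α β 0 * v 0 0 δ) * b * b' := by rw [← e, e1]
      _ = a * a' * v α β 0 * (v 0 0 δ * b * b') := by group
  · rw [D.f.φ_add _ (mul_mem ha.1 ha'.1) (mul_mem ha.2 ha'.2) _ m1.1 m1.2, D.f.φ_add _ ha.1 ha.2 _ ha'.1 ha'.2,
      D.φ_V (D.g.v_mem _ _ _) m1.1, add_zero]
  · rw [D.f.χ_add _ (mul_mem m2.1 hb.1) (mul_mem m2.2 hb.2) _ hb'.1 hb'.2, D.f.χ_add _ m2.1 m2.2 _ hb.1 hb.2,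
      D.χ_V (D.g.v_mem _ _ _) m2.1, zero_add]

theorem rep_left {a : G} (ha : a ∈ Qf i ⊓ centralizer (V : Set G)) : Rep V Qf i j φ χ a (φ a) 0 :=
  ⟨a, ha, 1, one_mem _, by rw [mul_one], rfl, D.χ_one⟩

theorem rep_right {b : G} (hb : b ∈ Qf j ⊓ centralizer (V : Set G)) : Rep V Qf i j φ χ b 0 (χ b) :=
  ⟨1, one_mem _, b, hb, by rw [one_mul], D.φ_one, rfl⟩

theorem rep_Y {y : G} : y ∈ YY V Qf i j ↔ ∃ u w, Rep V Qf i j φ χ y u w := by
  constructor
  · intro hy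
    rw [YY, Subgroup.sup_eq_closure] at hy
    have key : ∀ a, a ∈ ((Qf i ⊓ centralizer (V : Set G) : Subgroup G) : Set G) ∪
        ((Qf j ⊓ centralizer (V : Set G) : Subgroup G) : Set G) → ∃ u w, Rep V Qf i j φ χ a u w := by
      intro a ha
      rcases ha with ha | ha
      · exact ⟨_, _, D.rep_left ha⟩
      · exact ⟨_, _, D.rep_right ha⟩
    induction hy using Subgroup.closure_induction_left with
    | one => exact ⟨_, _, D.rep_left (one_mem _)⟩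
    | mul_left a ha b hb ih =>
      obtain ⟨u, w, h⟩ := ih
      obtain ⟨u', w', h'⟩ := key a ha
      exact ⟨_, _, D.rep_mul h' h⟩
    | inv_mul_cancel a ha b hb ih =>
      obtain ⟨u, w, h⟩ := ih
      obtain ⟨u', w', h'⟩ := key a⁻¹ (by
        rcases ha with ha | ha
        · exact Or.inl (inv_mem (S := Subgroup G) ha)
        · exact Or.inr (inv_mem (S := Subgroup G) ha))
      exact ⟨_, _, D.rep_mul h' h⟩
  · rintro ⟨u, w, a, ha, b, hb, rfl, -, -⟩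
    exact mul_mem (mem_sup_left ha) (mem_sup_right hb)

theorem rep_uniq {y : G} {u w u' w' : Φ} (h : Rep V Qf i j φ χ y u w) (h' : Rep V Qf i j φ χ y u' w') :
    u = u' ∧ w = w' := by
  obtain ⟨a, ha, b, hb, rfl, rfl, rfl⟩ := h
  obtain ⟨a', ha', b', hb', e, rfl, rfl⟩ := h'
  have e1 : a'⁻¹ * a = b' * b⁻¹ := by
    calc a'⁻¹ * a = a'⁻¹ * (a * b) * b⁻¹ := by group
      _ = b' * b⁻¹ := by rw [e]; group
  have hV : a'⁻¹ * a ∈ V := D.meetV (mem_inf.mpr ⟨mul_mem (inv_mem ha'.1) ha.1, by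
    rw [e1]; exact mul_mem hb'.1 (inv_mem hb.1)⟩)
  constructor
  · have h1 := D.f.φ_add _ ha'.1 ha'.2 (a'⁻¹ * a) (mul_mem (inv_mem ha'.1) ha.1) (mul_mem (inv_mem ha'.2) ha.2)
    rw [mul_inv_cancel_left, D.φ_V hV (mul_mem (inv_mem ha'.1) ha.1), add_zero] at h1
    exact h1
  · symm
    refine D.χ_congr hb'.1 hb'.2 hb.1 hb.2 ?_
    rw [← e1]; exact hV

theorem rep_V {y : G} (hy : y ∈ V) : Rep V Qf i j φ χ y 0 0 := by
  obtain ⟨α, β, δ, rfl⟩ := D.g.v_surj _ hy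
  have e1 : v α β δ = v α β 0 * v 0 0 δ := by
    rw [← D.g.v_add, add_zero, add_zero, zero_add]
  have m1 : v α β 0 ∈ Qf i ⊓ centralizer (V : Set G) := mem_inf.mpr ⟨D.g.E_le _ _, D.VC (D.g.v_mem _ _ _)⟩
  have m2 : v 0 0 δ ∈ Qf j ⊓ centralizer (V : Set G) := mem_inf.mpr ⟨D.g.E'_le _ _, D.VC (D.g.v_mem _ _ _)⟩
  exact ⟨_, m1, _, m2, e1, D.φ_V (D.g.v_mem _ _ _) m1.1, D.χ_V (D.g.v_mem _ _ _) m2.1⟩

theorem rep_zero {y : G} (h : Rep V Qf i j φ χ y 0 0) : y ∈ V := by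
  obtain ⟨a, ha, b, hb, rfl, h1, h2⟩ := h
  obtain ⟨α, β, e⟩ := (D.f.φ_ker a ha.1 ha.2).mp h1
  obtain ⟨β', δ, e'⟩ := D.f.χ_ker b hb.1 hb.2 h2
  rw [e, e']
  exact mul_mem (D.g.v_mem _ _ _) (D.g.v_mem _ _ _)

theorem rep_conj₁ {y m : G} {u w : Φ} (hy : y ∈ Qf i) (h : Rep V Qf i j φ χ m u w) :
    Rep V Qf i j φ χ (y * m * y⁻¹) (u + p y • w) w := by
  obtain ⟨a, ha, b, hb, rfl, rfl, rfl⟩ := h
  obtain ⟨h1, h2⟩ := D.bil₁ hy hb
  have h3 : y * a * y⁻¹ ∈ Qf i ⊓ centralizer (V : Set G) :=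
    mem_inf.mpr ⟨mul_mem (mul_mem hy ha.1) (inv_mem hy), D.M.Q_cent hy ha.2⟩
  have h4 : φ (y * a * y⁻¹) = φ a := D.φ_congr h3.1 h3.2 ha.1 ha.2 (D.M.R_le i (D.M.QQ i y hy a ha.1))
  refine ⟨y * a * y⁻¹ * (y * b * y⁻¹ * b⁻¹), mul_mem h3 h1, b, hb, by group, ?_, rfl⟩
  rw [D.f.φ_add _ h3.1 h3.2 _ h1.1 h1.2, h4, h2]

theorem rep_conj₂ {y m : G} {u w : Φ} (hy : y ∈ Qf j) (h : Rep V Qf i j φ χ m u w) :
    Rep V Qf i j φ χ (y * m * y⁻¹) u (p' y • u + w) := by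
  obtain ⟨a, ha, b, hb, rfl, rfl, rfl⟩ := h
  obtain ⟨h1, h2⟩ := D.bil' hy ha
  have h3 : y * b * y⁻¹ ∈ Qf j ⊓ centralizer (V : Set G) :=
    mem_inf.mpr ⟨mul_mem (mul_mem hy hb.1) (inv_mem hy), D.M.Q_cent hy hb.2⟩
  have h4 : χ (y * b * y⁻¹) = χ b := D.χ_congr h3.1 h3.2 hb.1 hb.2 (D.M.R_le j (D.M.QQ j y hy b hb.1))
  have e : y * (a * b) * y⁻¹ = (y * a * y⁻¹ * a⁻¹) * a * (y * b * y⁻¹) := by group
  rw [e]
  have h5 := D.rep_mul (D.rep_mul (D.rep_right h1) (D.rep_left ha)) (D.rep_right h3)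
  rw [zero_add, add_zero, add_zero, h2, h4] at h5
  exact h5

/-- the action of a matrix on the hermitian matrices -/
def Act (T : Quad k F) (v : k → F → k → G) (x : G) (α β γ δ : F) : Prop :=
  ∀ a b d, ∃ a' d', algebraMap k F a' = α * T.sg α * algebraMap k F a + α * T.sg β * b + β * T.sg α * T.sg b +
      β * T.sg β * algebraMap k F d ∧
    algebraMap k F d' = γ * T.sg γ * algebraMap k F a + γ * T.sg δ * b + δ * T.sg γ * T.sg b +
      δ * T.sg δ * algebraMap k F d ∧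
    x * v a b d * x⁻¹ = v a' (α * T.sg γ * algebraMap k F a + α * T.sg δ * b + β * T.sg γ * T.sg b +
      β * T.sg δ * algebraMap k F d) d'

/-- **every `x ∈ X` acts on `Y / V` and on `V` as a matrix of determinant one** -/
theorem mat {x : G} (hx : x ∈ Qf i ⊔ Qf j) : ∃ α β γ δ : F, α * δ + β * γ = 1 ∧
    (∀ m u w, Rep V Qf i j φ χ m u w → Rep V Qf i j φ χ (x * m * x⁻¹) (α • u + β • w) (γ • u + δ • w)) ∧
    Act T v x α β γ δ := by
  have h2 := GEnd.h2 D.g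
  have key : ∀ y, y ∈ (Qf i : Set G) ∪ (Qf j : Set G) → ∀ x, (∃ α β γ δ : F, α * δ + β * γ = 1 ∧
    (∀ m u w, Rep V Qf i j φ χ m u w → Rep V Qf i j φ χ (x * m * x⁻¹) (α • u + β • w) (γ • u + δ • w)) ∧
    Act T v x α β γ δ) → ∃ α β γ δ : F, α * δ + β * γ = 1 ∧
    (∀ m u w, Rep V Qf i j φ χ m u w → Rep V Qf i j φ χ (y * x * m * (y * x)⁻¹) (α • u + β • w) (γ • u + δ • w)) ∧
    Act T v (y * x) α β γ δ := by
    rintro y (hy | hy) x ⟨α, β, γ, δ, h1, h3, h4⟩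
    · refine ⟨α + p y * γ, β + p y * δ, γ, δ, ?_, ?_, ?_⟩
      · linear_combination h1 + p y * γ * δ * h2
      · intro m u w h
        have h5 := D.rep_conj₁ hy (h3 m u w h)
        have e : y * x * m * (y * x)⁻¹ = y * (x * m * x⁻¹) * y⁻¹ := by group
        rw [e]
        have e2 : α • u + β • w + p y • (γ • u + δ • w) = (α + p y * γ) • u + (β + p y * δ) • w := by
          module
        rwa [e2] at h5
      · intro a b d
        obtain ⟨a', d', ha, hd, hv⟩ := h4 a b d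
        have e : y * x * v a b d * (y * x)⁻¹ = y * (x * v a b d * x⁻¹) * y⁻¹ := by group
        rw [e, hv, D.g.act y hy]
        refine ⟨_, _, ?_, hd, congrArg₂ (fun s t => v s t d') rfl ?_⟩
        · simp only [map_add, map_mul, T.tr_eq, T.nm_eq, T.sg_sg, AlgEquiv.commutes, ha, hd]
          ring
        · simp only [map_add, map_mul, hd]
          ring
    · refine ⟨α, β, γ + p' y * α, δ + p' y * β, ?_, ?_, ?_⟩
      · linear_combination h1 + p' y * α * β * h2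
      · intro m u w h
        have h5 := D.rep_conj₂ hy (h3 m u w h)
        have e : y * x * m * (y * x)⁻¹ = y * (x * m * x⁻¹) * y⁻¹ := by group
        rw [e]
        have e2 : p' y • (α • u + β • w) + (γ • u + δ • w) = (γ + p' y * α) • u + (δ + p' y * β) • w := by
          module
        rwa [e2] at h5
      · intro a b d
        obtain ⟨a', d', ha, hd, hv⟩ := h4 a b d
        have e : y * x * v a b d * (y * x)⁻¹ = y * (x * v a b d * x⁻¹) * y⁻¹ := by group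
        rw [e, hv, D.g.act' y hy]
        refine ⟨_, _, ha, ?_, congrArg₂ (fun s t => v a' s t) ?_ rfl⟩
        · simp only [map_add, map_mul, T.tr_eq, T.nm_eq, T.sg_sg, AlgEquiv.commutes, ha, hd]
          ring
        · simp only [map_add, map_mul, ha]
          ring
  rw [Subgroup.sup_eq_closure] at hx
  induction hx using Subgroup.closure_induction_left with
  | one =>
    refine ⟨1, 0, 0, 1, by ring, ?_, ?_⟩
    · intro m u w h
      simpa using h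
    · intro a b d
      refine ⟨a, d, by simp, by simp, by simp⟩
  | mul_left a ha b hb ih => exact key a ha b ih
  | inv_mul_cancel a ha b hb ih =>
    refine key a⁻¹ ?_ b ih
    rcases ha with ha | ha
    · exact Or.inl (inv_mem (S := Subgroup G) ha)
    · exact Or.inr (inv_mem (S := Subgroup G) ha)

end XD

end Cfsg.Agent.Omega.NO1U

end

section


/-!
# The group `X = ⟨Q, Q'⟩`: the stabiliser of `R`, the elements trivial on `V`, the number of points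

* `XD.mem_NR_iff`, `XD.scal` : `X ∩ N(R)` acts on `C_Q(V) / (V ∩ Q) = Φ` by scalars of `F`;
* `XD.triv` : `X ∩ C(V)` centralises `Y / V`;
* `XD.relIndex` : `|X : X ∩ N(R)| = |F| + 1`;
* `XD.mem_QC` : an element of `N(V) ∩ N(R)` which is trivial on `R`, `(V ∩ Q) / R`, `Q / C_Q(V)` lies in `Q C(V)`.
-/

set_option autoImplicit false
set_option linter.unusedVariables false
set_option linter.unusedSectionVars false

open Subgroup
open Cfsg.Agent.Omega.NO1.Beta.Meet Cfsg.Agent.Omega.NOne.SU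

namespace Cfsg.Agent.Omega.NO1U

universe u

variable {G : Type u} [Group G] {k F : Type*} [Field k] [Field F] [Algebra k F]
variable {T : Quad k F} {S : Sylow 2 G} {I : Type*} {V : Subgroup G} {Rf Qf : I → Subgroup G} {i j : I}
  {v : k → F → k → G} {p p' : G → F} {Φ : Type*} [AddCommGroup Φ] [Module F Φ] {φ χ : G → Φ}

namespace XD

variable (D : XD T S V Rf Qf i j v p p' φ χ)
include D

theorem mem_NR {x : G} (hx : x ∈ normalizer (Rf i : Set G)) (a : k) : ∃ a', x * v a 0 0 * x⁻¹ = v a' 0 0 := by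
  have h1 : x * v a 0 0 * x⁻¹ ∈ Rf i := (mem_normalizer_iff.mp hx _).mp (D.g.sp.a_mem a)
  exact (GEnd.mem_R D.g _).mp h1

/-- the matrix of an element of `X ∩ N(R)` is upper triangular -/
theorem matR {x : G} (hx : x ∈ Qf i ⊔ Qf j) (hR : x ∈ normalizer (Rf i : Set G)) : ∃ α β : F, α ≠ 0 ∧
    (∀ m u w, Rep V Qf i j φ χ m u w → Rep V Qf i j φ χ (x * m * x⁻¹) (α • u + β • w) (α⁻¹ • w)) ∧
    Act T v x α β 0 α⁻¹ := by
  obtain ⟨α, β, γ, δ, h1, h2, h3⟩ := D.mat hx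
  obtain ⟨a', d', ha, hd, hv⟩ := h3 1 0 0
  obtain ⟨a'', ha''⟩ := D.mem_NR hR 1
  rw [ha''] at hv
  obtain ⟨-, -, e⟩ := GEnd.v_eq D.g hv
  rw [← e] at hd
  simp only [map_zero, map_one, mul_one, mul_zero, add_zero] at hd
  have hγ : γ = 0 := by
    rcases mul_eq_zero.mp hd.symm with h | h
    · exact h
    · simpa using h
  subst hγ
  rw [mul_zero, add_zero] at h1
  have hα : α ≠ 0 := left_ne_zero_of_mul_eq_one h1
  have hδ : δ = α⁻¹ := eq_inv_of_mul_eq_one_right h1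
  subst hδ
  refine ⟨α, β, hα, ?_, h3⟩
  intro m u w h
  have := h2 m u w h
  rwa [zero_smul, zero_add] at this

/-- **`X ∩ N(R)` acts on `C_Q(V) / (V ∩ Q)` by scalars** -/
theorem scal {x : G} (hx : x ∈ Qf i ⊔ Qf j) (hR : x ∈ normalizer (Rf i : Set G)) : ∃ s : F, s ≠ 0 ∧
    ∀ a ∈ Qf i ⊓ centralizer (V : Set G), x * a * x⁻¹ ∈ Qf i ⊓ centralizer (V : Set G) ∧
      φ (x * a * x⁻¹) = s • φ a := by
  obtain ⟨α, β, hα, h1, -⟩ := D.matR hx hR
  refine ⟨α, hα, fun a ha => ?_⟩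
  have h2 := h1 a _ _ (D.rep_left ha)
  have h3 : x * a * x⁻¹ ∈ Qf i ⊓ centralizer (V : Set G) := by
    refine mem_inf.mpr ⟨?_, cent_conj (X_le_N D.M hx) ha.2⟩
    have := conj_mem_cj (c := x) ha.1
    rwa [D.M.nor i x hR] at this
  refine ⟨h3, ?_⟩
  have h4 := (D.rep_uniq h2 (D.rep_left h3)).1
  rw [← h4, smul_zero, add_zero]

/-- **`X ∩ C(V)` centralises `Y / V`** -/
theorem triv {x m : G} {u w : Φ} (hx : x ∈ Qf i ⊔ Qf j) (hC : x ∈ centralizer (V : Set G))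
    (h : Rep V Qf i j φ χ m u w) : Rep V Qf i j φ χ (x * m * x⁻¹) u w := by
  have h2 := GEnd.h2 D.g
  have hR : x ∈ normalizer (Rf i : Set G) := by
    apply mem_normalizer_of_cj
    exact cj_eq_of_comm fun r hr => ((mem_centralizer_iff.mp hC) r (D.M.R_le i hr)).symm
  obtain ⟨α, β, hα, h1, h3⟩ := D.matR hx hR
  rw [GEnd.cent_iff D.g] at hC
  -- `β = 0`
  obtain ⟨a', d', ha, hd, hv⟩ := h3 0 0 1
  rw [hC] at hv
  obtain ⟨e1, e2, e3⟩ := GEnd.v_eq D.g hv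
  rw [← e1] at ha
  simp only [map_zero, map_one, mul_one, mul_zero, zero_add] at ha
  have hβ : β = 0 := by
    rcases mul_eq_zero.mp ha.symm with h | h
    · exact h
    · simpa using h
  subst hβ
  -- `α σ(α⁻¹) = 1`
  obtain ⟨a', d', ha, hd, hv⟩ := h3 0 1 0
  rw [hC] at hv
  obtain ⟨e1, e2, e3⟩ := GEnd.v_eq D.g hv
  simp only [map_zero, map_one, mul_one, mul_zero, zero_add, add_zero, zero_mul] at e2
  -- `α σ(α) = 1`
  obtain ⟨a', d', ha, hd, hv⟩ := h3 1 0 0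
  rw [hC] at hv
  obtain ⟨e1, e2', e3⟩ := GEnd.v_eq D.g hv
  rw [← e1] at ha
  simp only [map_zero, map_one, mul_one, mul_zero, zero_add, add_zero, zero_mul] at ha
  have hs : T.sg α ≠ 0 := QuadF.sg_ne T hα
  have e4 : T.sg α = α := by
    rw [map_inv₀] at e2
    field_simp at e2
    exact e2
  rw [e4] at ha
  have e5 : (α - 1) * (α - 1) = 0 := by linear_combination -ha - (α - 1) * h2
  have e6 : α = 1 := by
    have := mul_self_eq_zero.mp e5
    exact sub_eq_zero.mp this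
  have := h1 m u w h
  rw [e6, zero_smul, add_zero, one_smul, inv_one, one_smul] at this
  exact this

theorem triv' {x y : G} (hx : x ∈ Qf i ⊔ Qf j) (hC : x ∈ centralizer (V : Set G)) (hy : y ∈ YY V Qf i j) :
    x * y * x⁻¹ * y⁻¹ ∈ V := by
  obtain ⟨u, w, h⟩ := D.rep_Y.mp hy
  obtain ⟨u', w', h'⟩ := D.rep_Y.mp (inv_mem hy)
  have h1 := D.rep_mul h h'
  rw [mul_inv_cancel] at h1
  obtain ⟨e1, e2⟩ := D.rep_uniq h1 (D.rep_V (one_mem V))
  have h2 := D.rep_mul (D.triv hx hC h) h'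
  rw [e1, e2] at h2
  exact D.rep_zero h2

/-! ### The number of points -/

theorem cj_Rf_eq {x y : G} : cj x (Rf i) = cj y (Rf i) ↔ x⁻¹ * y ∈ normalizer (Rf i : Set G) := by
  constructor
  · intro h
    apply mem_normalizer_of_cj
    rw [cj_mul, ← h, ← cj_mul, inv_mul_cancel, cj, map_one, one_smul]
  · intro h
    have h1 := cj_of_mem_normalizer h
    calc cj x (Rf i) = cj x (cj (x⁻¹ * y) (Rf i)) := by rw [h1]
      _ = cj y (Rf i) := by rw [← cj_mul, mul_inv_cancel_left]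

theorem card_I : Nat.card I = Nat.card F + 1 := by
  classical
  have hF := GEnd.finF T
  obtain ⟨x, y, hpx, hpy, Fr⟩ := D.frame
  -- `l ≠ i ↦ p u`, `cj u (R j) = R l`
  have h1 : ∀ c : F, ∃ l, l ≠ i ∧ cj (x c) (Rf j) = Rf l := by
    intro c
    obtain ⟨l, h, h', -⟩ := D.M.move D.ne.symm (Fr.hx c)
    exact ⟨l, h, h'⟩
  choose f hf hf' using h1
  have hinj : Function.Injective f := by
    intro c d h
    have h2 : cj (x c) (Rf j) = cj (x d) (Rf j) := by rw [hf', hf', h]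
    have h3 : (x c)⁻¹ * x d ∈ centralizer (V : Set G) := by
      apply D.M.fixj i j D.ne _ (mul_mem (inv_mem (Fr.hx c)) (Fr.hx d))
      rw [cj_mul, ← h2, ← cj_mul, inv_mul_cancel, cj, map_one, one_smul]
    rw [GEnd.mem_C D.g (mul_mem (inv_mem (Fr.hx c)) (Fr.hx d)), D.g.p_add _ (inv_mem (Fr.hx c)) _ (Fr.hx d),
      GEnd.p_inv D.g (Fr.hx c), hpx, hpx] at h3
    exact (neg_add_eq_zero.mp h3)
  have hsurj : ∀ l, l ≠ i → ∃ c, f c = l := by
    intro l hl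
    obtain ⟨u, hu, h2⟩ := D.M.tran i j l D.ne.symm hl
    refine ⟨p u, D.M.inj _ _ ?_⟩
    rw [← hf', ← h2]
    have h3 : (x (p u))⁻¹ * u ∈ centralizer (V : Set G) := by
      rw [GEnd.mem_C D.g (mul_mem (inv_mem (Fr.hx _)) hu), D.g.p_add _ (inv_mem (Fr.hx _)) _ hu,
        GEnd.p_inv D.g (Fr.hx _), hpx, neg_add_cancel]
    have h4 : cj ((x (p u))⁻¹ * u) (Rf j) = Rf j :=
      cj_eq_of_comm fun r hr => ((mem_centralizer_iff.mp h3) r (D.M.R_le j hr)).symm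
    calc cj (x (p u)) (Rf j) = cj (x (p u)) (cj ((x (p u))⁻¹ * u) (Rf j)) := by rw [h4]
      _ = cj u (Rf j) := by rw [← cj_mul, mul_inv_cancel_left]
  let e : Option F ≃ I := Equiv.ofBijective (fun o => o.elim i f) (by
    constructor
    · rintro (_ | c) (_ | d) h
      · rfl
      · exact absurd h.symm (hf d)
      · exact absurd h (hf c)
      · rw [hinj h]
    · intro l
      by_cases hl : l = i
      · exact ⟨none, hl.symm⟩
      · obtain ⟨c, hc⟩ := hsurj l hl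
        exact ⟨some c, hc⟩)
  rw [← Nat.card_congr e, Finite.card_option]

/-- `|X : X ∩ N(R)| = |F| + 1` -/
theorem relIndex : (normalizer (Rf i : Set G)).relIndex (Qf i ⊔ Qf j) = Nat.card F + 1 := by
  rw [← D.card_I, Subgroup.relIndex, Subgroup.index]
  have h1 : ∀ x : ↥(Qf i ⊔ Qf j), ∃ l, cj (x : G) (Rf i) = Rf l := fun x => by
    obtain ⟨l, h, -⟩ := permX D.M x.2 i
    exact ⟨l, h⟩
  choose f hf using h1
  refine Nat.card_congr (Equiv.ofBijective (Quotient.lift f ?_) ⟨?_, ?_⟩)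
  · intro a b hab
    have h2 : (a : G)⁻¹ * b ∈ normalizer (Rf i : Set G) := by
      have := (QuotientGroup.leftRel_apply.mp hab)
      rw [mem_subgroupOf] at this
      exact this
    apply D.M.inj
    rw [← hf, ← hf]
    exact D.cj_Rf_eq.mpr h2
  · intro a b
    induction a using QuotientGroup.induction_on with | _ a => ?_
    induction b using QuotientGroup.induction_on with | _ b => ?_
    intro hab
    change f a = f b at hab
    rw [QuotientGroup.eq, mem_subgroupOf]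
    apply D.cj_Rf_eq.mp
    rw [hf, hf, hab]
  · intro l
    obtain ⟨x, hx, h2, -⟩ := D.tranX l
    refine ⟨((⟨x, hx⟩ : ↥(Qf i ⊔ Qf j)) : ↥(Qf i ⊔ Qf j) ⧸ _), D.M.inj _ _ ?_⟩
    change Rf (f ⟨x, hx⟩) = Rf l
    rw [← hf, h2]

/-! ### The elements which act on `V` as an element of `Q` -/

/-- an element of `N(V)` which is trivial on `R`, `(V ∩ Q) / R`, `Q / C_Q(V)` lies in `Q C(V)` -/
theorem mem_QC {g : G} (hN : g ∈ normalizer (V : Set G)) (hR : g ∈ centralizer (Rf i : Set G))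
    (hE : ∀ b, ∃ a, g * v 0 b 0 * g⁻¹ = v a b 0) (hp : ∀ y ∈ Qf i, p (g * y * g⁻¹) = p y) :
    ∃ y ∈ Qf i, y⁻¹ * g ∈ centralizer (V : Set G) := by
  have hRN : g ∈ normalizer (Rf i : Set G) := by
    apply mem_normalizer_of_cj
    exact cj_eq_of_comm fun r hr => ((mem_centralizer_iff.mp hR) r hr).symm
  -- the point `g R'`
  obtain ⟨l, hl1, hl2⟩ := D.permN hN j
  have hl : l ≠ i := by
    rintro rfl
    have h1 : cj g (Rf j) = cj g (Rf l) := by rw [hl1, cj_of_mem_normalizer hRN]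
    exact D.ne (D.M.inj _ _ (cj_inj h1)).symm
  obtain ⟨y, hy, h2⟩ := D.M.tran i j l D.ne.symm hl
  refine ⟨y, hy, ?_⟩
  set h := y⁻¹ * g with hh
  have hyN : y⁻¹ ∈ normalizer (V : Set G) := inv_mem (D.M.Q_V i hy)
  have hhN : h ∈ normalizer (V : Set G) := mul_mem hyN hN
  have hyR : y⁻¹ ∈ centralizer (Rf i : Set G) := by
    rw [mem_centralizer_iff]
    intro r hr
    exact D.M.RQ i r hr _ (inv_mem hy)
  have hhR : h ∈ centralizer (Rf i : Set G) := mul_mem hyR hR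
  have hj : cj h (Rf j) = Rf j := by
    rw [hh, cj_mul, hl1, ← h2, ← cj_mul, inv_mul_cancel, cj, map_one, one_smul]
  have hjQ : cj h (Qf j) = Qf j := D.M.nor j h (mem_normalizer_of_cj hj)
  have hE' : ∀ b, ∃ a, h * v 0 b 0 * h⁻¹ = v a b 0 := by
    intro b
    obtain ⟨a, ha⟩ := hE b
    have e : h * v 0 b 0 * h⁻¹ = y⁻¹ * (g * v 0 b 0 * g⁻¹) * y⁻¹⁻¹ := by rw [hh]; group
    rw [e, ha, D.g.act _ (inv_mem hy)]
    refine ⟨a + T.tr (T.sg (p y⁻¹) * b), ?_⟩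
    rw [map_zero, mul_zero, mul_zero, add_zero, add_zero]
  have hp' : ∀ z ∈ Qf i, p (h * z * h⁻¹) = p z := by
    intro z hz
    have hgz : g * z * g⁻¹ ∈ Qf i := by
      have := conj_mem_cj (c := g) hz
      rwa [D.M.nor i g hRN] at this
    have e : h * z * h⁻¹ = y⁻¹ * (g * z * g⁻¹) * y := by rw [hh]; group
    rw [e, D.g.p_add _ (mul_mem (inv_mem hy) hgz) _ hy, D.g.p_add _ (inv_mem hy) _ hgz, GEnd.p_inv D.g hy, hp z hz]
    ring
  -- `h v 0 b 0 h⁻¹ = v 0 b 0`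
  have hb : ∀ b, h * v 0 b 0 * h⁻¹ = v 0 b 0 := by
    intro b
    obtain ⟨a, ha⟩ := hE' b
    have h3 : v 0 b 0 ∈ Qf j := D.g.E'_le b 0
    have h4 : h * v 0 b 0 * h⁻¹ ∈ Qf j := by
      have := conj_mem_cj (c := h) h3
      rwa [hjQ] at this
    have h5 : h * v 0 b 0 * h⁻¹ ∈ V := (mem_normalizer_iff.mp hhN _).mp (D.g.v_mem 0 b 0)
    obtain ⟨b', d', h6⟩ := D.V_Q' h5 h4
    rw [ha] at h6
    obtain ⟨h7, -, -⟩ := GEnd.v_eq D.g h6
    rw [ha, h7]
  have hd : ∀ d, h * v 0 0 d * h⁻¹ = v 0 0 d := by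
    intro d
    have h3 : v 0 0 d ∈ Rf j := (D.Rj _).mpr ⟨d, rfl⟩
    have h4 : h * v 0 0 d * h⁻¹ ∈ Rf j := by
      have := conj_mem_cj (c := h) h3
      rwa [hj] at this
    obtain ⟨d', h5⟩ := (D.Rj _).mp h4
    -- `[y, v 0 0 d] ≡ v 0 (p y d) 0`
    obtain ⟨z, hz, hz1⟩ := D.g.p_surj 1
    have h6 := D.g.act z hz 0 0 d
    have hhz : h * z * h⁻¹ ∈ Qf i := by
      have := conj_mem_cj (c := h) hz
      rwa [D.M.nor i h (by
        apply mem_normalizer_of_cj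
        exact cj_eq_of_comm fun r hr => ((mem_centralizer_iff.mp hhR) r hr).symm)] at this
    have h7 := D.g.act _ hhz 0 0 d'
    rw [hp' z hz, ← h5] at h7
    have h8 : h * z * h⁻¹ * (h * v 0 0 d * h⁻¹) * (h * z * h⁻¹)⁻¹ = h * (z * v 0 0 d * z⁻¹) * h⁻¹ := by group
    rw [h8, h6] at h7
    rw [hz1] at h7
    simp only [map_one, mul_zero, map_zero, one_mul, zero_add, add_zero] at h7
    have e1 : ∀ (a : k) (b : F) (d : k), v a b d = v a 0 0 * v 0 b 0 * v 0 0 d := by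
      intro a b d
      simp only [← D.g.v_add, add_zero, zero_add]
    have h9 : h * v (T.nm 1 * d) (algebraMap k F d) d * h⁻¹ =
        v (T.nm 1 * d) 0 0 * v 0 (algebraMap k F d) 0 * v 0 0 d' := by
      rw [e1, ← h5]
      have h10 : h * v (T.nm 1 * d) 0 0 * h⁻¹ = v (T.nm 1 * d) 0 0 := by
        have := (mem_centralizer_iff.mp hhR) _ (D.g.sp.a_mem (T.nm 1 * d))
        change v (T.nm 1 * d) 0 0 * h = h * v (T.nm 1 * d) 0 0 at this
        rw [← this, mul_inv_cancel_right]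
      calc h * (v (T.nm 1 * d) 0 0 * v 0 (algebraMap k F d) 0 * v 0 0 d) * h⁻¹ =
          (h * v (T.nm 1 * d) 0 0 * h⁻¹) * (h * v 0 (algebraMap k F d) 0 * h⁻¹) * (h * v 0 0 d * h⁻¹) := by group
        _ = _ := by rw [h10, hb]
    rw [h9, ← e1] at h7
    obtain ⟨-, h11, -⟩ := GEnd.v_eq D.g h7
    have h12 : d = d' := (algebraMap k F).injective h11
    rw [h5, ← h12]
  rw [GEnd.cent_iff D.g]
  intro a b d
  have e1 : v a b d = v a 0 0 * v 0 b 0 * v 0 0 d := by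
    simp only [← D.g.v_add, add_zero, zero_add]
  have h10 : h * v a 0 0 * h⁻¹ = v a 0 0 := by
    have := (mem_centralizer_iff.mp hhR) _ (D.g.sp.a_mem a)
    change v a 0 0 * h = h * v a 0 0 at this
    rw [← this, mul_inv_cancel_right]
  rw [e1]
  calc h * (v a 0 0 * v 0 b 0 * v 0 0 d) * h⁻¹ =
      (h * v a 0 0 * h⁻¹) * (h * v 0 b 0 * h⁻¹) * (h * v 0 0 d * h⁻¹) := by group
    _ = _ := by rw [h10, hb, hd]

end XD

end Cfsg.Agent.Omega.NO1U

end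

section


/-!
# Node 0 of the parabolic system (closing of NO-1' (β), q ≥ 4)

`B` : a subgroup of `N(R) ∩ N(V)` which contains `X ∩ N(R)` (the stabiliser of a flag of `Q / R` which starts with
`e = (V ∩ Q) / R`), `P₀ = X B`, `U ⊴ B` with `Y ≤ U`, `U ≤ Q C(V)`.

* `Nd.inf` : `P₀ ∩ N(R) = B`; `Nd.card` : `|P₀ : B| = |F| + 1`;
* `Nd.digon`, `Nd.digon'` : the residues `(0, j)`, `j ≥ 2`;
* `Nd.pan`, `Nd.clo` : the fields `pan`, `clo` of `SysL` at node 0.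
-/

set_option autoImplicit false
set_option linter.unusedVariables false
set_option linter.unusedSectionVars false

open Subgroup
open Cfsg.Agent.Omega.NO1.Beta.Meet Cfsg.Agent.Omega.NOne.SU Cfsg.Agent.ParSys Cfsg.Agent.ParSys.RankTwo

namespace Cfsg.Agent.Omega.NO1U

universe u

variable {G : Type u} [Group G] {k F : Type*} [Field k] [Field F] [Algebra k F]
variable {T : Quad k F} {S : Sylow 2 G} {I : Type*} {V : Subgroup G} {Rf Qf : I → Subgroup G} {i j : I}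
  {v : k → F → k → G} {p p' : G → F} {Φ : Type*} [AddCommGroup Φ] [Module F Φ] {φ χ : G → Φ}

/-- any group between `X` and `N(V)` has `|F| + 1` cosets mod the stabiliser of `R` -/
theorem XD.relIndex' (D : XD T S V Rf Qf i j v p p' φ χ) {H : Subgroup G} (hX : Qf i ⊔ Qf j ≤ H)
    (hN : H ≤ normalizer (V : Set G)) : (normalizer (Rf i : Set G)).relIndex H = Nat.card F + 1 := by
  rw [← D.card_I, Subgroup.relIndex, Subgroup.index]
  have h1 : ∀ x : ↥H, ∃ l, cj (x : G) (Rf i) = Rf l := fun x => by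
    obtain ⟨l, h, -⟩ := D.permN (hN x.2) i
    exact ⟨l, h⟩
  choose f hf using h1
  refine Nat.card_congr (Equiv.ofBijective (Quotient.lift f ?_) ⟨?_, ?_⟩)
  · intro a b hab
    have h2 : (a : G)⁻¹ * b ∈ normalizer (Rf i : Set G) := by
      have := (QuotientGroup.leftRel_apply.mp hab)
      rw [mem_subgroupOf] at this
      exact this
    apply D.M.inj
    rw [← hf, ← hf]
    exact D.cj_Rf_eq.mpr h2
  · intro a b
    induction a using QuotientGroup.induction_on with | _ a => ?_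
    induction b using QuotientGroup.induction_on with | _ b => ?_
    intro hab
    change f a = f b at hab
    rw [QuotientGroup.eq, mem_subgroupOf]
    apply D.cj_Rf_eq.mp
    rw [hf, hf, hab]
  · intro l
    obtain ⟨x, hx, h2, -⟩ := D.tranX l
    refine ⟨((⟨x, hX hx⟩ : ↥H) : ↥H ⧸ _), D.M.inj _ _ ?_⟩
    change Rf (f ⟨x, hX hx⟩) = Rf l
    rw [← hf, h2]

/-- The data at node 0. -/
structure Nd (V : Subgroup G) (Rf Qf : I → Subgroup G) (i j : I) (B U : Subgroup G) : Prop where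
  BR : B ≤ normalizer (Rf i : Set G)
  BV : B ≤ normalizer (V : Set G)
  XB : (Qf i ⊔ Qf j) ⊓ normalizer (Rf i : Set G) ≤ B
  UB : U ≤ B
  nor : ∀ b ∈ B, ∀ u ∈ U, b⁻¹ * u * b ∈ U
  YU : YY V Qf i j ≤ U
  UQ : ∀ u ∈ U, ∃ y ∈ Qf i, y⁻¹ * u ∈ centralizer (V : Set G)

namespace Nd

variable {B U : Subgroup G} (D : XD T S V Rf Qf i j v p p' φ χ) (E : Nd V Rf Qf i j B U)
include D E

theorem mem {g : G} : g ∈ (Qf i ⊔ Qf j) ⊔ B ↔ ∃ x ∈ Qf i ⊔ Qf j, ∃ b ∈ B, g = x * b := by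
  constructor
  · intro hg
    rw [Subgroup.sup_eq_closure] at hg
    induction hg using Subgroup.closure_induction_left with
    | one => exact ⟨1, one_mem _, 1, one_mem _, by group⟩
    | mul_left a ha b hb ih =>
      obtain ⟨x, hx, c, hc, rfl⟩ := ih
      rcases ha with ha | ha
      · exact ⟨a * x, mul_mem ha hx, c, hc, by group⟩
      · exact ⟨a * x * a⁻¹, D.N_X (E.BV ha) hx, a * c, mul_mem ha hc, by group⟩
    | inv_mul_cancel a ha b hb ih =>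
      obtain ⟨x, hx, c, hc, rfl⟩ := ih
      rcases ha with ha | ha
      · exact ⟨a⁻¹ * x, mul_mem (inv_mem (S := Subgroup G) ha) hx, c, hc, by group⟩
      · have ha' : a⁻¹ ∈ B := B.inv_mem ha
        exact ⟨a⁻¹ * x * a⁻¹⁻¹, D.N_X (E.BV ha') hx, a⁻¹ * c, mul_mem ha' hc, by group⟩
  · rintro ⟨x, hx, b, hb, rfl⟩
    exact mul_mem (mem_sup_left hx) (mem_sup_right hb)

/-- `P₀ ∩ N(R) = B` -/
theorem inf : ((Qf i ⊔ Qf j) ⊔ B) ⊓ normalizer (Rf i : Set G) = B := by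
  apply le_antisymm
  · intro g hg'
    obtain ⟨hg, hR⟩ := mem_inf.mp hg'
    obtain ⟨x, hx, b, hb, rfl⟩ := (mem D E).mp hg
    have h1 : x ∈ normalizer (Rf i : Set G) := by
      have := mul_mem hR (inv_mem (E.BR hb))
      rwa [mul_inv_cancel_right] at this
    exact mul_mem (E.XB ⟨hx, h1⟩) hb
  · exact le_inf le_sup_right E.BR

/-- `|P₀ : B| = |F| + 1` -/
theorem card : B.relIndex ((Qf i ⊔ Qf j) ⊔ B) = Nat.card F + 1 := by
  have h1 := D.relIndex' (H := (Qf i ⊔ Qf j) ⊔ B) le_sup_left (sup_le (XD.X_le_N D.M) E.BV)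
  have h2 := Subgroup.inf_relIndex_right (normalizer (Rf i : Set G)) ((Qf i ⊔ Qf j) ⊔ B)
  rw [inf_comm, inf D E] at h2
  rw [h2, h1]

section digon

variable {J : Type*} {P : J → Subgroup G} {a b : J}

theorem digon (hP : ∀ c, B ≤ P c) (ha : P a = (Qf i ⊔ Qf j) ⊔ B) (hb : P b ≤ normalizer (V : Set G))
    (hb' : P b ≤ normalizer (Rf i : Set G)) : GPp B P a b 2 := by
  refine gpp_two hP ?_ ?_
  · intro x hx hx'
    rw [ha] at hx
    rw [← inf D E]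
    exact ⟨hx, hb' hx'⟩
  · intro x hx q hq
    rw [ha] at hx
    obtain ⟨y, hy, c, hc, rfl⟩ := (mem D E).mp hx
    refine ⟨c * q, mul_mem (hP b hc) hq, (c * q)⁻¹ * y * (c * q)⁻¹⁻¹, ?_, by group⟩
    rw [ha]
    exact mem_sup_left (D.N_X (inv_mem (mul_mem (E.BV hc) (hb hq))) hy)

theorem digon' (hP : ∀ c, B ≤ P c) (ha : P a = (Qf i ⊔ Qf j) ⊔ B) (hb : P b ≤ normalizer (V : Set G))
    (hb' : P b ≤ normalizer (Rf i : Set G)) : GPp B P b a 2 := by
  refine gpp_two hP ?_ ?_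
  · intro x hx hx'
    rw [ha] at hx'
    rw [← inf D E]
    exact ⟨hx', hb' hx⟩
  · intro q hq x hx
    rw [ha] at hx
    obtain ⟨y, hy, c, hc, rfl⟩ := (mem D E).mp hx
    refine ⟨q * y * q⁻¹, ?_, q * c, mul_mem hq (hP b hc), by group⟩
    rw [ha]
    exact mem_sup_left (D.N_X (hb hq) hy)

end digon

/-- an element of `U` which fixes a second point of `V` is trivial on `V` -/
theorem cent {g x : G} (hg : g ∈ U) (hx : x ∈ normalizer (V : Set G)) (hxR : x ∉ normalizer (Rf i : Set G))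
    (h : x⁻¹ * g * x ∈ normalizer (Rf i : Set G)) : g ∈ centralizer (V : Set G) := by
  obtain ⟨y, hy, hc⟩ := E.UQ g hg
  obtain ⟨l, hl, -⟩ := D.permN hx i
  have hli : l ≠ i := by
    rintro rfl
    exact hxR (mem_normalizer_of_cj hl)
  have h1 : cj g (Rf l) = Rf l := by
    rw [← hl]
    have h2 := cj_of_mem_normalizer h
    calc cj g (cj x (Rf i)) = cj x (cj (x⁻¹ * g * x) (Rf i)) := by
          rw [← cj_mul, ← cj_mul]
          congr 1; group
      _ = cj x (Rf i) := by rw [h2]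
  have h3 : cj (y⁻¹ * g) (Rf l) = Rf l :=
    cj_eq_of_comm fun r hr => ((mem_centralizer_iff.mp hc) r (D.M.R_le l hr)).symm
  have h4 : cj y (Rf l) = Rf l := by
    calc cj y (Rf l) = cj y (cj (y⁻¹ * g) (Rf l)) := by rw [h3]
      _ = cj g (Rf l) := by rw [← cj_mul]; congr 1; group
      _ = Rf l := h1
  have h5 := D.M.fixj i l hli.symm y hy h4
  have h6 := mul_mem h5 hc
  rwa [mul_inv_cancel_left] at h6

theorem conj_U {g x : G} (hg : g ∈ U) (hC : g ∈ centralizer (V : Set G)) (hx : x ∈ Qf i ⊔ Qf j) :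
    x⁻¹ * g * x ∈ U := by
  have h1 := D.comm (inv_mem hx) hC
  have e : x⁻¹ * g * x = (x⁻¹ * g * x⁻¹⁻¹ * g⁻¹) * g := by group
  rw [e]
  exact mul_mem (E.YU h1) hg

theorem conj_U' {g x : G} (hg : g ∈ U) (hC : g ∈ centralizer (V : Set G)) (hx : x ∈ (Qf i ⊔ Qf j) ⊔ B) :
    x⁻¹ * g * x ∈ U := by
  obtain ⟨y, hy, b, hb, rfl⟩ := (mem D E).mp hx
  have h1 := conj_U D E hg hC hy
  have e : (y * b)⁻¹ * g * (y * b) = b⁻¹ * (y⁻¹ * g * y) * b := by group
  rw [e]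
  exact E.nor b hb _ h1

theorem P0_le : (Qf i ⊔ Qf j) ⊔ B ≤ normalizer (V : Set G) := sup_le (XD.X_le_N D.M) E.BV

theorem notin {x : G} (hx : x ∈ (Qf i ⊔ Qf j) ⊔ B) (hxB : x ∉ B) : x ∉ normalizer (Rf i : Set G) := by
  intro h
  apply hxB
  rw [← inf D E]
  exact ⟨hx, h⟩

theorem pan : ∀ g ∈ U, ∀ x ∈ (Qf i ⊔ Qf j) ⊔ B, x ∉ B → x⁻¹ * g * x ∈ B →
    ∀ y ∈ (Qf i ⊔ Qf j) ⊔ B, y⁻¹ * g * y ∈ B := by
  intro g hg x hx hxB h y hy
  exact E.UB (conj_U' D E hg (cent D E hg (P0_le D E hx) (notin D E hx hxB) (E.BR h)) hy)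

theorem clo : ∀ g ∈ U, ∀ x ∈ (Qf i ⊔ Qf j) ⊔ B, x⁻¹ * g * x ∈ B → x⁻¹ * g * x ∈ U := by
  intro g hg x hx h
  by_cases hxB : x ∈ B
  · exact E.nor x hxB g hg
  · exact conj_U' D E hg (cent D E hg (P0_le D E hx) (notin D E hx hxB) (E.BR h)) hx

/-- generation -/
theorem gen {C : Subgroup G} (hMC : normalizer (V : Set G) ⊔ normalizer (Rf i : Set G) = ⊤)
    (hC : normalizer (Rf i : Set G) ≤ C) (h0 : (Qf i ⊔ Qf j) ⊔ B ≤ C) : C = ⊤ := by
  rw [eq_top_iff, ← hMC]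
  refine sup_le ?_ hC
  intro m hm
  obtain ⟨x, hx, c, -, hc, rfl⟩ := D.NX hm
  exact mul_mem (h0 (mem_sup_left hx)) (hC hc)

end Nd

end Cfsg.Agent.Omega.NO1U

end
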