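import Cfsg.Agent.Mrg.Omega.NO1U.PlaneInv


/-!
# NO-1' (β), q ≥ 4: the totally isotropic lines of `Q / R` through `e₀` (fields `cov`, `disj`, `Ytr` of `Line`)
-/

set_option autoImplicit false
set_option linter.unusedSectionVars false
set_option linter.unusedVariables false

open Subgroup
open Cfsg.Agent.Omega.NOne.SU

namespace Cfsg.Agent.Omega.NO1U

variable {G : Type*} [Group G] {k F : Type*} [Field k] [Field F] [Algebra k F] {T : Quad k F}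
  {S : Sylow 2 G} {V R Q Q' : Subgroup G} {v : k → F → k → G} {p p' : G → F}
  {Φ : Type*} [AddCommGroup Φ] [Module F Φ] {φ χ : G → Φ} {hm : Φ → Φ → F}
  {W : Type*} [AddCommGroup W] [Module F W] {w : G → W} {g : W → W → F} {f₀ : W} {ι : Φ →ₗ[F] W}

/-- `Y = C_Q(V) C_{Q'}(V) V` -/
def Yg (V Q Q' : Subgroup G) : Subgroup G :=
  (Q ⊓ centralizer (V : Set G)) ⊔ (Q' ⊓ centralizer (V : Set G)) ⊔ V

namespace OutL

variable (h : GIn T S V R Q Q' v p p') (o : Out T V R Q Q' v p φ χ hm w g f₀ ι)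
include h o

theorem Yg_Q {y : G} (hy : y ∈ Q) (hc : y ∈ centralizer (V : Set G)) : y ∈ Yg V Q Q' :=
  mem_sup_left (mem_sup_left (mem_inf.2 ⟨hy, hc⟩))

theorem Yg_Q' {y : G} (hy : y ∈ Q') (hc : y ∈ centralizer (V : Set G)) : y ∈ Yg V Q Q' :=
  mem_sup_left (mem_sup_right (mem_inf.2 ⟨hy, hc⟩))

theorem Yg_V {y : G} (hy : y ∈ V) : y ∈ Yg V Q Q' := mem_sup_right hy

theorem Yg_le : Yg V Q Q' ≤ centralizer (V : Set G) :=
  sup_le (sup_le inf_le_right inf_le_right) h.V_le_CV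

/-- an element `m ∉ F e₀` of `e₀^⊥` is not orthogonal to an element of `e₀^⊥` -/
theorem exists_m {m : W} (hm0 : g m (w (v 0 1 0)) = 0) (hne : ∀ s : F, m ≠ s • w (v 0 1 0)) (t : F) :
    ∃ u, g u (w (v 0 1 0)) = 0 ∧ g u m = t := by
  obtain ⟨a, x, b, rfl⟩ := o.span m
  have hb : b = 0 := by
    have h1 := hm0
    rw [o.g_add, o.g_add, o.g_smul, o.g_smul, o.g_ee, o.g_sym (w (v 0 1 0)) (ι x), o.g_eι, map_zero, mul_zero,
      zero_add, zero_add, o.g_sym (w (v 0 1 0)) f₀, o.g_ef, map_one, mul_one] at h1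
    exact h1
  subst hb
  have hx : x ≠ 0 := by
    rintro rfl
    apply hne a
    rw [map_zero, add_zero, zero_smul, add_zero]
  obtain ⟨u, hu⟩ : ∃ u, hm x u ≠ 0 := by
    by_contra hcon
    push Not at hcon
    exact hx (o.hm_nondeg x hcon)
  have h2 : g (ι u) (a • w (v 0 1 0) + ι x + (0 : F) • f₀) ≠ 0 := by
    rw [zero_smul, add_zero, g_add' h o, g_smul' h o, o.g_sym (w (v 0 1 0)) (ι u), o.g_eι, map_zero, mul_zero,
      zero_add, o.g_sym (ι x) (ι u), o.g_ιι]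
    exact T.sg_ne' hu
  refine ⟨(t * (g (ι u) (a • w (v 0 1 0) + ι x + (0 : F) • f₀))⁻¹) • ι u, ?_, ?_⟩
  · rw [o.g_smul, o.g_sym (w (v 0 1 0)) (ι u), o.g_eι, map_zero, mul_zero]
  · rw [o.g_smul, inv_mul_cancel_right₀ h2]

section iso

variable {L : Submodule F W} (hL : w (v 0 1 0) ∈ L) (hiso : ∀ x ∈ L, ∀ y ∈ L, g x y = 0)
include hL hiso

/-- the point `h e₀` of `L` -/
theorem pointL {c : G} (hc : c ∈ Lam R v w L) (hN : c ∉ normalizer (V : Set G)) :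
    ∃ m ∈ L, (∀ s : F, m ≠ s • w (v 0 1 0)) ∧ (∀ b, ∃ s : F, w (c * v 0 b 0 * c⁻¹) = s • m) ∧
      ∀ s : F, ∃ b, w (c * v 0 b 0 * c⁻¹) = s • m := by
  obtain ⟨m, hm0, h1, h2⟩ := point h o hc.1
  obtain ⟨b, hb⟩ := h2 1
  rw [one_smul] at hb
  refine ⟨m, by rw [← hb]; exact hc.2 b, fun s hs => hN ?_, h1, h2⟩
  apply mem_N h o hc.1 (b := b) (s := s)
  · rintro rfl
    rw [h.v_zero] at hb
    have e : c * 1 * c⁻¹ = 1 := by group
    rw [e, w_one h o] at hb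
    exact hm0 hb.symm
  · rw [hb, hs]

/-- `Q = C_Q(V) C_Q(h V h⁻¹)` -/
theorem cov {c u : G} (hc : c ∈ Lam R v w L) (hN : c ∉ normalizer (V : Set G)) (hu : u ∈ Q) :
    ∃ y ∈ Yg V Q Q', c⁻¹ * (y⁻¹ * u) * c ∈ centralizer (V : Set G) := by
  obtain ⟨m, hmL, hne, h1, h2⟩ := pointL h o hL hiso hc hN
  obtain ⟨m', hm', hmm⟩ := exists_m h o (hiso m hmL _ hL) hne (g (w u) m)
  obtain ⟨y, hy, rfl⟩ := o.w_surj m'
  refine ⟨y, Yg_Q h o hy ((mem_CV_iff h o hy).2 hm'), ?_⟩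
  have hyu : y⁻¹ * u ∈ Q := mul_mem (inv_mem hy) hu
  apply mem_CV_of_commute h o (h.nor_inv hc.1 hyu)
  intro b
  have h3 : y⁻¹ * u * (c * v 0 b 0 * c⁻¹) = c * v 0 b 0 * c⁻¹ * (y⁻¹ * u) := by
    apply commute_of h o hyu (h.nor c hc.1 _ (h.E_le 0 b))
    obtain ⟨s, hs⟩ := h1 b
    rw [hs, g_smul' h o, o.w_mul _ (inv_mem hy) _ hu, w_inv h o hy, o.g_add, g_neg h o, hmm, neg_add_cancel,
      mul_zero]
  calc c⁻¹ * (y⁻¹ * u) * c * v 0 b 0 = c⁻¹ * (y⁻¹ * u * (c * v 0 b 0 * c⁻¹)) * c := by group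
    _ = c⁻¹ * (c * v 0 b 0 * c⁻¹ * (y⁻¹ * u)) * c := by rw [h3]
    _ = v 0 b 0 * (c⁻¹ * (y⁻¹ * u) * c) := by group

/-- `Y` acts trivially on `e₀^⊥ / e₀` -/
theorem Y_triv {u : G} (hu : u ∈ Yg V Q Q') : ∀ y ∈ Q, y ∈ centralizer (V : Set G) →
    ∃ s : F, w (u * y * u⁻¹) = w y + s • w (v 0 1 0) := by
  let H : Subgroup G :=
    { carrier := {u | u ∈ centralizer (V : Set G) ∧ ∀ y ∈ Q, y ∈ centralizer (V : Set G) →
        ∃ s : F, w (u * y * u⁻¹) = w y + s • w (v 0 1 0)}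
      one_mem' := ⟨one_mem _, fun y _ _ => ⟨0, by
        have e : 1 * y * 1⁻¹ = y := by group
        rw [e, zero_smul, add_zero]⟩⟩
      mul_mem' := by
        rintro a b ⟨ha, ha'⟩ ⟨hb, hb'⟩
        refine ⟨mul_mem ha hb, fun y hy hyV => ?_⟩
        obtain ⟨s, hs⟩ := hb' y hy hyV
        have hQ : b * y * b⁻¹ ∈ Q := h.nor b (h.CR_le_NR (h.CV_le_CR hb)) y hy
        have hC : b * y * b⁻¹ ∈ centralizer (V : Set G) := mul_mem (mul_mem hb hyV) (inv_mem hb)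
        obtain ⟨s', hs'⟩ := ha' _ hQ hC
        refine ⟨s + s', ?_⟩
        have e : a * b * y * (a * b)⁻¹ = a * (b * y * b⁻¹) * a⁻¹ := by group
        rw [e, hs', hs, add_smul, add_assoc]
      inv_mem' := by
        rintro a ⟨ha, ha'⟩
        refine ⟨inv_mem ha, fun y hy hyV => ?_⟩
        have hQ : a⁻¹ * y * a⁻¹⁻¹ ∈ Q := h.nor a⁻¹ (inv_mem (h.CR_le_NR (h.CV_le_CR ha))) y hy
        have hC : a⁻¹ * y * a⁻¹⁻¹ ∈ centralizer (V : Set G) := mul_mem (mul_mem (inv_mem ha) hyV) (inv_mem (inv_mem ha))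
        obtain ⟨s, hs⟩ := ha' _ hQ hC
        have e : a * (a⁻¹ * y * a⁻¹⁻¹) * a⁻¹ = y := by group
        rw [e] at hs
        refine ⟨-s, ?_⟩
        rw [hs, neg_smul, add_neg_cancel_right] }
  have hle : Yg V Q Q' ≤ H := by
    refine sup_le (sup_le ?_ ?_) ?_
    · rintro a ⟨ha, ha'⟩
      refine ⟨ha', fun y hy hyV => ⟨0, ?_⟩⟩
      have h1 : a * y * a⁻¹ = a * y * a⁻¹ * y⁻¹ * y := by group
      rw [h1, o.w_mul _ (mul_mem (mul_mem (mul_mem ha hy) (inv_mem ha)) (inv_mem hy)) _ hy,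
        w_R h o (h.sp.comm a ha y hy), zero_add, zero_smul, add_zero]
    · rintro a ⟨ha, ha'⟩
      refine ⟨ha', fun y hy hyV => ?_⟩
      obtain ⟨r, -, h1⟩ := o.χ_act a ha ha'
      have h2 := (mem_CV_iff h o hy).1 hyV
      have h3 := h1 y hy
      rw [h2, zero_smul, add_zero, mul_zero, add_zero] at h3
      exact ⟨_, h3⟩
    · intro a ha
      refine ⟨h.V_le_CV ha, fun y hy hyV => ⟨0, ?_⟩⟩
      have h1 := (mem_centralizer_iff.1 hyV) a ha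
      have h2 : a * y * a⁻¹ = y := by rw [h1]; group
      rw [h2, zero_smul, add_zero]
  exact (hle hu).2

/-- a point `≠ R` of `h V h⁻¹` meets `Y` trivially -/
theorem disj {c : G} (hc : c ∈ Lam R v w L) (hN : c ∉ normalizer (V : Set G)) {d : k}
    (hd : c * v 0 0 d * c⁻¹ ∈ Yg V Q Q') : d = 0 := by
  obtain ⟨m, hmL, hne, h1, h2⟩ := pointL h o hL hiso hc hN
  obtain ⟨m', hm', hmm⟩ := exists_m h o (hiso m hmL _ hL) hne 1
  obtain ⟨y, hy, rfl⟩ := o.w_surj m'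
  obtain ⟨s, hs⟩ := Y_triv h o hL hiso hd y hy ((mem_CV_iff h o hy).2 hm')
  -- `z = c⁻¹ y c`
  have hz : c⁻¹ * y * c ∈ Q := h.nor_inv hc.1 hy
  obtain ⟨a', h3⟩ := h.comm_V 0 0 d hz
  have hpz : p (c⁻¹ * y * c) ≠ 0 := by
    intro h0
    obtain ⟨b, hb⟩ := h2 1
    have h4 := (h.p_eq_zero hz).1 h0
    have h5 : ∀ b, y * (c * v 0 b 0 * c⁻¹) = c * v 0 b 0 * c⁻¹ * y := by
      intro b
      have h6 := (mem_centralizer_iff.1 h4) (v 0 b 0) (h.v_mem _ _ _)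
      calc y * (c * v 0 b 0 * c⁻¹) = c * ((c⁻¹ * y * c) * v 0 b 0) * c⁻¹ := by group
        _ = c * (v 0 b 0 * (c⁻¹ * y * c)) * c⁻¹ := by rw [h6]
        _ = c * v 0 b 0 * c⁻¹ * y := by group
    have h7 : ∀ s : F, T.tr (s * 1) = 0 := by
      intro s
      obtain ⟨b, hb⟩ := h2 (T.sg s)
      have h8 := tr_of_commute h o hy (h.nor c hc.1 _ (h.E_le 0 b)) (h5 b)
      rw [hb, g_smul' h o, T.sg_sg, hmm] at h8
      exact h8
    exact one_ne_zero (T.eq_zero_of_tr h.h2 (fun b => by rw [mul_comm]; exact h7 b))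
  have h4 : c * v 0 0 d * c⁻¹ * y * (c * v 0 0 d * c⁻¹)⁻¹ =
      (c * v a' (p (c⁻¹ * y * c) * algebraMap k F d) 0 * c⁻¹) * y := by
    rw [← h3]; group
  rw [h4, o.w_mul _ (h.nor c hc.1 _ (h.E_le _ _)) _ hy, w_conj_E h o hc.1, add_comm, add_left_cancel_iff] at hs
  obtain ⟨t, ht⟩ := h1 (p (c⁻¹ * y * c) * algebraMap k F d)
  by_contra hd0
  have hb0 : p (c⁻¹ * y * c) * algebraMap k F d ≠ 0 := mul_ne_zero hpz ((map_ne_zero _).2 hd0)
  exact hN (mem_N h o hc.1 hb0 hs)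

end iso

/-- `Y` is transitive on the points `≠ F e₀` of a totally isotropic line `⟨e₀, m⟩` -/
theorem Ytr (f : Fld T V R Q Q' v p φ χ) {m : W} (hme : g m (w (v 0 1 0)) = 0) (hmm : g m m = 0)
    {c c' : G} (hc : c ∈ Lam R v w (Submodule.span F {w (v 0 1 0), m})) (hN : c ∉ normalizer (V : Set G))
    (hc' : c' ∈ Lam R v w (Submodule.span F {w (v 0 1 0), m})) (hN' : c' ∉ normalizer (V : Set G)) :
    ∃ y ∈ Yg V Q Q', c⁻¹ * (y * c') ∈ normalizer (V : Set G) := by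
  have hL : w (v 0 1 0) ∈ Submodule.span F {w (v 0 1 0), m} := Submodule.subset_span (by simp)
  have hem : g (w (v 0 1 0)) m = 0 := g_swap h o hme
  have hiso : ∀ x ∈ Submodule.span F {w (v 0 1 0), m}, ∀ y ∈ Submodule.span F {w (v 0 1 0), m}, g x y = 0 := by
    intro x hx y hy
    obtain ⟨a, b, rfl⟩ := Submodule.mem_span_pair.1 hx
    obtain ⟨a', b', rfl⟩ := Submodule.mem_span_pair.1 hy
    rw [o.g_add, g_add' h o, g_add' h o, g_smul' h o, g_smul' h o, g_smul' h o, g_smul' h o, o.g_smul, o.g_smul,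
      o.g_smul, o.g_smul, o.g_ee, hme, hmm, hem]
    ring
  obtain ⟨n, hnL, hne, h1, h2⟩ := pointL h o hL hiso hc hN
  obtain ⟨n', hnL', hne', h1', h2'⟩ := pointL h o hL hiso hc' hN'
  obtain ⟨a, b, rfl⟩ := Submodule.mem_span_pair.1 hnL
  obtain ⟨a', b', rfl⟩ := Submodule.mem_span_pair.1 hnL'
  have hb : b ≠ 0 := by
    rintro rfl
    exact hne a (by rw [zero_smul, add_zero])
  have hb' : b' ≠ 0 := by
    rintro rfl
    exact hne' a' (by rw [zero_smul, add_zero])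
  -- the element of `C_{Q'}(V)`
  obtain ⟨a₁, x, b₁, hmx⟩ := o.span (a' • w (v 0 1 0) + b' • m)
  have hge : g (a' • w (v 0 1 0) + b' • m) (w (v 0 1 0)) = 0 := by
    rw [o.g_add, o.g_smul, o.g_smul, o.g_ee, hme]; ring
  have hb₁ : b₁ = 0 := by
    have h3 := hge
    rw [hmx, o.g_add, o.g_add, o.g_smul, o.g_smul, o.g_ee, o.g_sym (w (v 0 1 0)) (ι x), o.g_eι, map_zero,
      mul_zero, zero_add, zero_add, o.g_sym (w (v 0 1 0)) f₀, o.g_ef, map_one, mul_one] at h3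
    exact h3
  subst hb₁
  rw [zero_smul, add_zero] at hmx
  have hx : x ≠ 0 := by
    rintro rfl
    apply hne' a₁
    rw [hmx, map_zero, add_zero]
  obtain ⟨u, hu⟩ : ∃ u, hm x u ≠ 0 := by
    by_contra hcon
    push Not at hcon
    exact hx (o.hm_nondeg x hcon)
  have hgι : ∀ s : F, g (a' • w (v 0 1 0) + b' • m) (ι (s • u)) = T.sg s * hm x u := by
    intro s
    rw [hmx, o.g_add, o.g_smul, o.g_eι, mul_zero, zero_add, map_smul, g_smul' h o, o.g_ιι]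
  set t : F := b' * b⁻¹ * a - a' with ht
  obtain ⟨y, hy, hyV, hyχ⟩ := f.χ_surj ((T.sg (t * (hm x u)⁻¹)) • u)
  refine ⟨y, Yg_Q' h o hy hyV, ?_⟩
  have hyR : y ∈ normalizer (R : Set G) := h.CR_le_NR (h.CV_le_CR hyV)
  have hcR : c⁻¹ * (y * c') ∈ normalizer (R : Set G) := mul_mem (inv_mem hc.1) (mul_mem hyR hc'.1)
  obtain ⟨b₂, hb₂⟩ := h2' 1
  rw [one_smul] at hb₂
  have hb₂0 : b₂ ≠ 0 := by
    rintro rfl
    rw [h.v_zero] at hb₂
    have e : c' * 1 * c'⁻¹ = 1 := by group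
    rw [e, w_one h o] at hb₂
    exact hne' 0 (by rw [zero_smul, hb₂])
  -- `y c' v(0,b₂,0) (y c')⁻¹`
  obtain ⟨r, -, hact⟩ := o.χ_act y hy hyV
  have h3 : w (y * (c' * v 0 b₂ 0 * c'⁻¹) * y⁻¹) = (b' * b⁻¹) • (a • w (v 0 1 0) + b • m) := by
    rw [hact _ (h.nor c' hc'.1 _ (h.E_le 0 b₂)), hb₂, hge, zero_smul, add_zero, mul_zero, add_zero, hyχ, hgι,
      T.sg_sg, inv_mul_cancel_right₀ hu, ht]
    rw [smul_add, smul_smul, smul_smul, inv_mul_cancel_right₀ hb, sub_smul]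
    abel
  obtain ⟨b₃, hb₃⟩ := h2 (b' * b⁻¹)
  rw [← hb₃] at h3
  have h4 := w_conj_congr h o (inv_mem hc.1) (h.nor y hyR _ (h.nor c' hc'.1 _ (h.E_le 0 b₂)))
    (h.nor c hc.1 _ (h.E_le 0 b₃)) h3
  apply mem_N h o hcR (b := b₂) (s := b₃) hb₂0
  have e1 : c⁻¹ * (y * c') * v 0 b₂ 0 * (c⁻¹ * (y * c'))⁻¹ = c⁻¹ * (y * (c' * v 0 b₂ 0 * c'⁻¹) * y⁻¹) * c⁻¹⁻¹ := by
    group
  have e2 : c⁻¹ * (c * v 0 b₃ 0 * c⁻¹) * c⁻¹⁻¹ = v 0 b₃ 0 := by group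
  rw [e1, h4, e2, o.w_e]

end OutL

end Cfsg.Agent.Omega.NO1U
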