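import Cfsg.Agent.Mrg.Omega.NO1U.SemiOf
import Cfsg.Agent.Mrg.Omega.NO1U.PlaneLineB
import Cfsg.Agent.Mrg.Omega.NO1U.PlaneInv
import Mathlib
import Cfsg.Agent.Mrg.ParSys.Main
import Cfsg.Agent.Mrg.ParSys.Polar.Flags

section


/-!
# NO-1' (β), closing, residue `{0, 1}`: the instance of `Base`

`CX_le_Y` : `C_X(V) ≤ Y`.  `exists_base` : the torus `T` (cyclic of odd order, `C_Y(T) = 1`) and `n` (swaps `R`, `R'`
and normalises `T`).
-/

set_option autoImplicit false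
set_option linter.unusedVariables false
set_option linter.unusedSectionVars false

open Subgroup
open scoped Pointwise
open Cfsg.Agent.Omega.NO1.Beta.Meet Cfsg.Agent.Omega.NOne.SU

namespace Cfsg.Agent.Omega.NO1U

universe u

variable {G : Type u} [Group G] {k F : Type*} [Field k] [Field F] [Algebra k F] {T : Quad k F} {S : Sylow 2 G}
  {I : Type*} {V : Subgroup G} {Rf Qf : I → Subgroup G} {i j : I} {v : k → F → k → G} {p p' : G → F}
  {Φ : Type*} [AddCommGroup Φ] [Module F Φ] {φ χ : G → Φ}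

theorem Yg_eq (M : Mt V Rf Qf) (hne : i ≠ j) : Yg V (Qf i) (Qf j) = YY V Qf i j := by
  apply le_antisymm
  · refine sup_le (sup_le le_sup_left le_sup_right) ?_
    refine (M.VE i j hne).trans (sup_le ?_ ?_)
    · exact (le_inf inf_le_right (inf_le_left.trans M.V_le_C)).trans le_sup_left
    · exact (le_inf (M.R_Q j) ((M.R_le j).trans M.V_le_C)).trans le_sup_right
  · exact le_sup_left

namespace XD

variable (D : XD T S V Rf Qf i j v p p' φ χ)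
include D

/-- **`C_X(V) ≤ Y`** -/
theorem CX_le_Y {hm : Φ → Φ → F} {W : Type*} [AddCommGroup W] [Module F W]
    {w : G → W} {g : W → W → F} {f₀ : W} {ι : Φ →ₗ[F] W} (o : Out T V (Rf i) (Qf i) (Qf j) v p φ χ hm w g f₀ ι)
    {x : G} (hx : x ∈ Qf i ⊔ Qf j) (hxV : x ∈ centralizer (V : Set G)) : x ∈ YY V Qf i j := by
  have hxCR := D.g.CV_le_CR hxV
  have hxR := D.g.CR_le_NR hxCR
  obtain ⟨n, hn, hnV, d, y, hy, rfl⟩ := o.rad x hxCR (by
      intro b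
      have h1 := (mem_centralizer_iff.1 hxV) (v 0 b 0) (D.g.v_mem _ _ _)
      congr 1
      rw [← h1]; group) (by
      intro y hy h0
      have hyV : y ∈ centralizer (V : Set G) := by
        rw [← D.g.p_eq_zero hy, o.p_eq y hy, h0]
      have h2 : x * y * x⁻¹ ∈ Qf i := D.g.nor x hxR y hy
      have h3 : x * y * x⁻¹ ∈ centralizer (V : Set G) := mul_mem (mul_mem hxV hyV) (inv_mem hxV)
      have h1 : φ (x * y * x⁻¹) = φ y :=
        (D.rep_uniq (D.rep_left (mem_inf.2 ⟨h2, h3⟩)) (D.triv hx hxV (D.rep_left (mem_inf.2 ⟨hy, hyV⟩)))).1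
      obtain ⟨a, ha⟩ := o.φ_eq y hy hyV
      obtain ⟨a', ha'⟩ := o.φ_eq _ h2 h3
      refine ⟨a' - a, ?_⟩
      rw [ha', ha, h1, o.w_e (a' - a), sub_smul]
      abel) (by
      intro y hy
      have h2 : x * y * x⁻¹ ∈ Qf i := D.g.nor x hxR y hy
      rw [← o.p_eq _ h2, ← o.p_eq y hy]
      -- same action on `V`
      have e1 := D.g.act _ h2 0 0 1
      have e2 := D.g.act y hy 0 0 1
      have e3 : x * y * x⁻¹ * v 0 0 1 * (x * y * x⁻¹)⁻¹ = y * v 0 0 1 * y⁻¹ := by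
        have h6 : x⁻¹ * v 0 0 1 * x = v 0 0 1 := by
          have := (mem_centralizer_iff.1 hxV) (v 0 0 1) (D.g.v_mem _ _ _)
          rw [mul_assoc, this]; group
        have h7 : y * v 0 0 1 * y⁻¹ ∈ V := (mem_normalizer_iff.1 (D.M.Q_V i hy) _).1 (D.g.v_mem _ _ _)
        have h8 := (mem_centralizer_iff.1 hxV) _ h7
        calc x * y * x⁻¹ * v 0 0 1 * (x * y * x⁻¹)⁻¹ = x * (y * (x⁻¹ * v 0 0 1 * x) * y⁻¹) * x⁻¹ := by group
          _ = x * (y * v 0 0 1 * y⁻¹) * x⁻¹ := by rw [h6]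
          _ = (y * v 0 0 1 * y⁻¹) * x * x⁻¹ := by rw [← h8]
          _ = y * v 0 0 1 * y⁻¹ := by group
      rw [e1, e2] at e3
      have := (GEnd.v_eq D.g e3).2.1
      simpa using this)
  -- `y ∈ C(V)`
  have hd : v 0 0 d ∈ centralizer (V : Set G) := D.VC (D.g.v_mem _ _ _)
  have hyV : y ∈ centralizer (V : Set G) := by
    have e : y = (v 0 0 d)⁻¹ * (n⁻¹ * (n * v 0 0 d * y)) := by group
    rw [e]
    exact mul_mem (inv_mem hd) (mul_mem (inv_mem hnV) hxV)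
  refine mul_mem (mul_mem (mem_sup_right (mem_inf.2 ⟨hn, hnV⟩)) ?_) (mem_sup_left (mem_inf.2 ⟨hy, hyV⟩))
  exact D.V_le_Y (D.g.v_mem _ _ _)

/-- `Y` is a 2-group -/
theorem Y_two : IsPGroup 2 (YY V Qf i j) := by
  rintro ⟨y, hy⟩
  refine ⟨2, Subtype.ext ?_⟩
  obtain ⟨u, w, h⟩ := D.rep_Y.1 hy
  have h1 := D.rep_mul h h
  rw [D.addΦ, D.addΦ] at h1
  have h2 := D.two_inv (D.rep_zero h1)
  change y ^ (2 ^ 2) = 1
  have e : y ^ (2 ^ 2) = y * y * (y * y) := by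
    rw [show (2 : ℕ) ^ 2 = 2 + 2 by norm_num, pow_add, pow_two]
  rw [e, h2]

end XD

/-- `t` acts on `Y / V` and on `V` with the weights of `z` -/
structure Tw (T : Quad k F) (V : Subgroup G) (Qf : I → Subgroup G) (i j : I) (v : k → F → k → G) (φ χ : G → Φ)
    (t : G) (z : F) : Prop where
  X : t ∈ Qf i ⊔ Qf j
  rep : ∀ m u w, Rep V Qf i j φ χ m u w → Rep V Qf i j φ χ (t * m * t⁻¹) (z • u) (z⁻¹ • w)
  act : ∀ a b d, t * v a b d * t⁻¹ = v (T.nm z * a) (z * (T.sg z)⁻¹ * b) ((T.nm z)⁻¹ * d)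

namespace Tw

theorem nm_mul (T : Quad k F) (z z' : F) : T.nm (z * z') = T.nm z * T.nm z' := by
  apply (algebraMap k F).injective
  rw [map_mul, T.nm_eq, T.nm_eq, T.nm_eq, map_mul]
  ring

theorem mul {t t' : G} {z z' : F} (h : Tw T V Qf i j v φ χ t z) (h' : Tw T V Qf i j v φ χ t' z') :
    Tw T V Qf i j v φ χ (t * t') (z * z') := by
  refine ⟨mul_mem h.X h'.X, ?_, ?_⟩
  · intro m u w hr
    have h1 := h.rep _ _ _ (h'.rep _ _ _ hr)
    have e : t * t' * m * (t * t')⁻¹ = t * (t' * m * t'⁻¹) * t⁻¹ := by group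
    rw [e, mul_smul, mul_inv, mul_smul]
    exact h1
  · intro a b d
    have e : t * t' * v a b d * (t * t')⁻¹ = t * (t' * v a b d * t'⁻¹) * t⁻¹ := by group
    rw [e, h'.act, h.act, nm_mul, map_mul, mul_inv, mul_inv]
    congr 1 <;> ring

theorem pow {t : G} {z : F} (h : Tw T V Qf i j v φ χ t z) (N : ℕ) :
    Tw T V Qf i j v φ χ (t ^ (2 ^ N)) (z ^ (2 ^ N)) := by
  induction N with
  | zero => simpa using h
  | succ N ih =>
    have h1 := ih.mul ih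
    rwa [← pow_add, ← pow_add, ← two_mul, ← pow_succ'] at h1

end Tw

/-- a field element with `z ≠ 0`, `σ z ≠ z`, `N z ≠ 1` -/
theorem exists_z (T : Quad k F) (h2 : (2 : F) = 0) : ∃ z : F, z ≠ 0 ∧ T.sg z ≠ z ∧ T.nm z ≠ 1 := by
  have hF := GEnd.finF T
  have hk : Finite k := Finite.of_injective _ (algebraMap k F).injective
  have h1 : ∃ u : F, T.sg u ≠ u := by
    by_contra hcon
    push Not at hcon
    have hs : Function.Surjective (algebraMap k F) := fun x => T.fix x (hcon x)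
    have hb : Function.Bijective (algebraMap k F) := ⟨(algebraMap k F).injective, hs⟩
    have h3 := Nat.card_congr (Equiv.ofBijective _ hb)
    have h4 := T.card
    have h5 := T.four
    rw [← h3] at h4
    nlinarith
  obtain ⟨u, hu⟩ := h1
  have hu0 : u ≠ 0 := by
    rintro rfl; exact hu (map_zero _)
  obtain ⟨a, ha0, ha1⟩ : ∃ a : k, a ≠ 0 ∧ a ≠ 1 := by
    classical
    by_contra hcon
    push Not at hcon
    have h3 : ∀ a : k, a ∈ ({0, 1} : Finset k) := by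
      intro a
      by_cases h0 : a = 0
      · simp [h0]
      · simp [hcon a h0]
    have hft := Fintype.ofFinite k
    have h4 : Nat.card k ≤ 2 := by
      rw [Nat.card_eq_fintype_card, ← Finset.card_univ]
      exact (Finset.card_le_card (fun a _ => h3 a)).trans Finset.card_le_two
    have := T.four
    omega
  by_cases hn : T.nm u = 1
  · refine ⟨algebraMap k F a * u, mul_ne_zero (by simpa using ha0) hu0, ?_, ?_⟩
    · rw [map_mul, AlgEquiv.commutes]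
      intro h
      exact hu (mul_left_cancel₀ (by simpa using ha0) h)
    · rw [Tw.nm_mul, hn, mul_one]
      intro h
      have h3 := congrArg (algebraMap k F) h
      rw [T.nm_eq, AlgEquiv.commutes, map_one, ← map_mul, ← map_one (algebraMap k F)] at h3
      have h4 : a * a = 1 := (algebraMap k F).injective h3
      have hk2 : (2 : k) = 0 := by
        apply (algebraMap k F).injective
        rw [map_ofNat, h2, map_zero]
      have h5 : (a - 1) * (a - 1) = 0 := by linear_combination h4 - (a - 1) * hk2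
      exact ha1 (sub_eq_zero.1 (mul_self_eq_zero.1 h5))
  · exact ⟨u, hu0, hu, hn⟩

theorem sg_pow (T : Quad k F) (z : F) (N : ℕ) : T.sg (z ^ N) = T.sg z ^ N := map_pow _ _ _

theorem nm_pow (T : Quad k F) (z : F) (N : ℕ) : T.nm (z ^ N) = T.nm z ^ N := by
  apply (algebraMap k F).injective
  rw [map_pow, T.nm_eq, T.nm_eq, sg_pow, mul_pow]

/-- the Frobenius is injective -/
theorem pow_two_pow_inj {K : Type*} [Field K] (h2 : (2 : K) = 0) (N : ℕ) {a b : K} (h : a ^ (2 ^ N) = b ^ (2 ^ N)) :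
    a = b := by
  induction N with
  | zero => simpa using h
  | succ N ih =>
    apply ih
    rw [pow_succ, pow_mul, pow_mul] at h
    have h5 : (a ^ (2 ^ N) - b ^ (2 ^ N)) * (a ^ (2 ^ N) - b ^ (2 ^ N)) = 0 := by
      linear_combination h - (a ^ (2 ^ N) * b ^ (2 ^ N) - b ^ (2 ^ N) * b ^ (2 ^ N)) * h2
    exact sub_eq_zero.1 (mul_self_eq_zero.1 h5)

namespace XD

variable (D : XD T S V Rf Qf i j v p p' φ χ)
include D

theorem exists_tw {z : F} (hz : z ≠ 0) : ∃ t, Tw T V Qf i j v φ χ t z := by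
  obtain ⟨t, ht, h1, h2, h3, h4⟩ := D.f.tor z hz
  refine ⟨t, ht, ?_, h1⟩
  rintro m u w ⟨a, ha, b, hb, rfl, rfl, rfl⟩
  have htN : t ∈ normalizer (V : Set G) := X_le_N D.M ht
  refine ⟨t * a * t⁻¹, mem_inf.2 ⟨(h2 a ha.1).1, cent_conj htN ha.2⟩, t * b * t⁻¹,
    mem_inf.2 ⟨(h4 b hb.1 hb.2).1, cent_conj htN hb.2⟩, by group, h3 a ha.1 ha.2, (h4 b hb.1 hb.2).2⟩

/-- the fixed points of `t` in `Y` -/
theorem tw_fix {t : G} {z : F} (h : Tw T V Qf i j v φ χ t z) (hz0 : z ≠ 0) (hz : T.sg z ≠ z) (hn : T.nm z ≠ 1) {y : G}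
    (hy : y ∈ YY V Qf i j) (hc : t * y = y * t) : y = 1 := by
  have hz1 : z ≠ 1 := by
    rintro rfl; exact hz (map_one _)
  have e : t * y * t⁻¹ = y := by rw [hc]; group
  obtain ⟨u, w, hr⟩ := D.rep_Y.1 hy
  have h1 := h.rep _ _ _ hr
  rw [e] at h1
  obtain ⟨h3, h4⟩ := D.rep_uniq h1 hr
  have hu : u = 0 := by
    have : (z - 1) • u = 0 := by rw [sub_smul, h3, one_smul, sub_self]
    exact (smul_eq_zero.1 this).resolve_left (sub_ne_zero.2 hz1)
  have hw : w = 0 := by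
    have : (z⁻¹ - 1) • w = 0 := by rw [sub_smul, h4, one_smul, sub_self]
    refine (smul_eq_zero.1 this).resolve_left (sub_ne_zero.2 ?_)
    intro h5
    exact hz1 (by rw [← inv_inv z, h5, inv_one])
  subst hu hw
  obtain ⟨a, b, d, rfl⟩ := D.g.v_surj _ (D.rep_zero hr)
  rw [h.act] at e
  obtain ⟨e1, e2, e3⟩ := GEnd.v_eq D.g e
  have ha : a = 0 := by
    have : (T.nm z - 1) * a = 0 := by rw [sub_mul, e1, one_mul, sub_self]
    exact (mul_eq_zero.1 this).resolve_left (sub_ne_zero.2 hn)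
  have hd : d = 0 := by
    have : ((T.nm z)⁻¹ - 1) * d = 0 := by rw [sub_mul, e3, one_mul, sub_self]
    refine (mul_eq_zero.1 this).resolve_left (sub_ne_zero.2 ?_)
    intro h5
    exact hn (by rw [← inv_inv (T.nm z), h5, inv_one])
  have hs0 : T.sg z ≠ 0 := QuadF.sg_ne T hz0
  have hb : b = 0 := by
    have : (z * (T.sg z)⁻¹ - 1) * b = 0 := by rw [sub_mul, e2, one_mul, sub_self]
    refine (mul_eq_zero.1 this).resolve_left (sub_ne_zero.2 ?_)
    intro h5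
    apply hz
    field_simp at h5
    exact h5.symm
  rw [ha, hb, hd]
  exact GEnd.v_zero D.g

end XD

namespace XD

variable (D : XD T S V Rf Qf i j v p p' φ χ)
include D

open GEnd in
/-- an element of `X` which swaps `R`, `R'` and acts on `V` as the swap of the coordinates -/
theorem exists_swap : ∃ n ∈ Qf i ⊔ Qf j, cj n (Rf i) = Rf j ∧ cj n (Rf j) = Rf i ∧
    ∀ a b d, n * v a b d * n⁻¹ = v d (T.sg b) a := by
  obtain ⟨x, y, hpx, hpy, Fr⟩ := D.frame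
  have h := D.M.swap D.ne (Fr.hx 1) (Fr.hy 1⁻¹) (Fr.mat 1 one_ne_zero)
  refine ⟨nn x y 1, mul_mem (mul_mem (mem_sup_left (Fr.hx 1)) (mem_sup_right (Fr.hy _))) (mem_sup_left (Fr.hx 1)),
    h.2.2.1, h.2.2.2, ?_⟩
  intro a b d
  rw [nn_act D.g Fr.hx hpx Fr.hy hpy one_ne_zero]
  simp only [QuadF.nm_one T, map_one, inv_one, one_mul]

/-- **the instance of `Base`** -/
theorem exists_base [Finite G] {hm : Φ → Φ → F} {W : Type*} [AddCommGroup W] [Module F W]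
    {w : G → W} {g : W → W → F} {f₀ : W} {ι : Φ →ₗ[F] W} (o : Out T V (Rf i) (Qf i) (Qf j) v p φ χ hm w g f₀ ι) :
    ∃ (T₀ : Subgroup G) (n : G), Base (Rf i) V (Qf i ⊔ Qf j) (Qf i) (YY V Qf i j) T₀ n ∧ cj n (Rf i) = Rf j ∧
      cj n (Rf j) = Rf i := by
  obtain ⟨z₀, hz0, hzs, hzn⟩ := exists_z T (GEnd.h2 D.g)
  obtain ⟨t₀, ht₀⟩ := D.exists_tw hz0
  -- the odd part
  obtain ⟨N, m, hm2, hord⟩ := Nat.exists_eq_two_pow_mul_odd (orderOf_pos t₀).ne'
  have hk2 : (2 : k) = 0 := D.g.sp.two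
  have htw := ht₀.pow N
  set t := t₀ ^ (2 ^ N) with ht
  set z := z₀ ^ (2 ^ N) with hz
  have hzz0 : z ≠ 0 := pow_ne_zero _ hz0
  have hzzs : T.sg z ≠ z := by
    rw [hz, sg_pow]
    intro h
    exact hzs (pow_two_pow_inj (GEnd.h2 D.g) N h)
  have hzzn : T.nm z ≠ 1 := by
    rw [hz, nm_pow]
    intro h
    exact hzn (pow_two_pow_inj hk2 N (by rw [h, one_pow]))
  have hordt : Odd (orderOf t) := by
    have h1 : orderOf t = m := by
      rw [ht, orderOf_pow, hord, Nat.gcd_eq_right (Dvd.intro _ rfl), Nat.mul_div_cancel_left _ (by positivity)]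
    rw [h1]; exact hm2
  -- `t` and `n₀`
  obtain ⟨n₀, hn₀, hnR, hnR', hact⟩ := D.exists_swap
  have hc1 : n₀ * t * n₀⁻¹ * t ∈ YY V Qf i j := by
    apply D.CX_le_Y o (mul_mem (mul_mem (mul_mem hn₀ htw.X) (inv_mem hn₀)) htw.X)
    rw [GEnd.cent_iff D.g]
    intro a b d
    have hn' : ∀ a b d, n₀⁻¹ * v a b d * n₀ = v d (T.sg b) a := by
      intro a b d
      have h1 := hact d (T.sg b) a
      rw [T.sg_sg] at h1
      rw [← h1]; group
    have e : n₀ * t * n₀⁻¹ * t * v a b d * (n₀ * t * n₀⁻¹ * t)⁻¹ =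
        n₀ * (t * (n₀⁻¹ * (t * v a b d * t⁻¹) * n₀) * t⁻¹) * n₀⁻¹ := by group
    have hs0 : T.sg z ≠ 0 := QuadF.sg_ne T hzz0
    have hn0 : T.nm z ≠ 0 := QuadF.nm_ne T hzz0
    rw [e, htw.act, hn', htw.act, hact]
    congr 1
    · rw [inv_mul_cancel_left₀ hn0]
    · simp only [map_mul, map_inv₀, T.sg_sg]
      field_simp
    · rw [mul_inv_cancel_left₀ hn0]
  have htY : zpowers t ≤ normalizer ((YY V Qf i j : Subgroup G) : Set G) := by
    rw [zpowers_le]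
    exact D.N_le_norY (X_le_N D.M htw.X)
  have hYp := D.Y_two
  have hYs : Group.IsSolvable (YY V Qf i j) := by
    have := hYp.isNilpotent
    infer_instance
  have hodd : (Nat.card (zpowers t)).Coprime 2 := by
    rw [Nat.card_zpowers]
    exact hordt.coprime_two_right
  have hcop : (Nat.card (zpowers t)).Coprime (Nat.card (YY V Qf i j)) := by
    obtain ⟨l, hl⟩ := (IsPGroup.iff_card (p := 2)).1 hYp
    rw [hl]
    exact Nat.Coprime.pow_right l hodd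
  have hmem : n₀ * t * n₀⁻¹ ∈ zpowers t ⊔ YY V Qf i j := by
    have e : n₀ * t * n₀⁻¹ = (n₀ * t * n₀⁻¹ * t) * t⁻¹ := by group
    rw [e]
    exact mul_mem (mem_sup_right hc1) (mem_sup_left (inv_mem (mem_zpowers t)))
  have hB : zpowers (n₀ * t * n₀⁻¹) ≤ zpowers t ⊔ YY V Qf i j := by
    rw [zpowers_le]; exact hmem
  obtain ⟨y, hy, hyB⟩ := Solvable.Glauberman.exists_conj_of_le_sup (zpowers t) (YY V Qf i j) htY hcop
    (Or.inr hYs) (zpowers (n₀ * t * n₀⁻¹)) hB (by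
      rw [Nat.card_zpowers, Nat.card_zpowers]
      exact (MulAut.conj n₀).orderOf_eq t)
  have hyX : y ∈ Qf i ⊔ Qf j := D.Y_le_X hy
  have hyC : y ∈ centralizer (V : Set G) := D.Y_le_C hy
  have hcjy : ∀ l, cj y⁻¹ (Rf l) = Rf l := fun l =>
    cj_eq_of_comm fun r hr => ((mem_centralizer_iff.mp (inv_mem hyC)) r (D.M.R_le l hr)).symm
  have hnR1 : cj (y⁻¹ * n₀) (Rf i) = Rf j := by rw [cj_mul, hnR, hcjy]
  have hnR2 : cj (y⁻¹ * n₀) (Rf j) = Rf i := by rw [cj_mul, hnR', hcjy]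
  have hnT : ∀ s ∈ zpowers t, y⁻¹ * n₀ * s * (y⁻¹ * n₀)⁻¹ ∈ zpowers t := by
    have h1 : y⁻¹ * n₀ * t * (y⁻¹ * n₀)⁻¹ ∈ zpowers t := by
      have h2 : n₀ * t * n₀⁻¹ ∈ zpowers (n₀ * t * n₀⁻¹) := mem_zpowers _
      rw [← hyB, Subgroup.mem_pointwise_smul_iff_inv_smul_mem] at h2
      have e : (MulAut.conj y)⁻¹ • (n₀ * t * n₀⁻¹) = y⁻¹ * n₀ * t * (y⁻¹ * n₀)⁻¹ := by
        rw [← map_inv, MulAut.smul_def, MulAut.conj_apply]; group
      rwa [e] at h2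
    rintro s ⟨l, rfl⟩
    have e : y⁻¹ * n₀ * (fun x : ℤ => t ^ x) l * (y⁻¹ * n₀)⁻¹ = (y⁻¹ * n₀ * t * (y⁻¹ * n₀)⁻¹) ^ l := by
      rw [conj_zpow]
    rw [e]
    exact zpow_mem h1 l
  have hnX : y⁻¹ * n₀ ∈ Qf i ⊔ Qf j := mul_mem (inv_mem hyX) hn₀
  refine ⟨zpowers t, y⁻¹ * n₀, ?_, hnR1, hnR2⟩
  exact
    { RV := D.M.R_le i
      XN := X_le_N D.M
      nX := hnX
      nC := fun h => D.ne (D.M.inj _ _ (by rw [← hnR1, cj_of_mem_normalizer h]))
      NX := fun m hm => by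
        obtain ⟨x, hx, c, -, hc, e⟩ := D.NX hm
        exact ⟨x, hx, c, hc, e⟩
      QX := le_sup_left
      QC := fun q hq => mem_normalizer_of_cj (cj_eq_of_comm fun r hr => (D.M.RQ i r hr q hq).symm)
      CQ := fun c hc u hu => D.g.nor c hc u hu
      Qtr := fun x hx hxC => D.Qtr hx hxC hnR1
      YX := D.Y_le_X
      YV := D.Y_le_C
      nY := fun y hy => D.N_Y (X_le_N D.M hnX) hy
      Yp := hYp
      TX := by rw [zpowers_le]; exact htw.X
      TC := by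
        rw [zpowers_le, mem_normalizer_iff]
        have hn0 : T.nm z ≠ 0 := QuadF.nm_ne T hzz0
        have ht0 : ∀ a, t * v a 0 0 * t⁻¹ = v (T.nm z * a) 0 0 := by
          intro a
          rw [htw.act, mul_zero, mul_zero]
        intro x
        rw [GEnd.mem_R D.g, GEnd.mem_R D.g]
        constructor
        · rintro ⟨a, rfl⟩
          exact ⟨_, ht0 a⟩
        · rintro ⟨a, ha⟩
          refine ⟨(T.nm z)⁻¹ * a, ?_⟩
          have h1 := ht0 ((T.nm z)⁻¹ * a)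
          rw [mul_inv_cancel_left₀ hn0, ← ha] at h1
          exact (mul_left_cancel (mul_right_cancel h1)).symm
      TY := htY
      Todd := hodd
      nT := hnT
      YT := fun y hy hc => D.tw_fix htw hzz0 hzzs hzzn hy (hc t (mem_zpowers t))
      comm := fun x hx g hg => D.comm hx hg }

end XD

end Cfsg.Agent.Omega.NO1U

end

section


/-!
# The residue `{0, 1}` of the closing of NO-1' (β), q ≥ 4

`Plane.gpp` : `GPp B P i j 3 ∧ GPp B P j i 3`.  The points are the cosets of `C = N(R)`, the lines the cosets of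
`N = N(V)`, in `Γ = ⟨P i, P j⟩`; `B` is the full stabiliser of the flag.
-/

set_option autoImplicit false

namespace Cfsg.Agent.Omega.NO1U

open Subgroup Cfsg.Agent.ParSys Cfsg.Agent.ParSys.RankTwo Cfsg.Agent.ParSys.FlagGP

variable {G : Type*} [Group G]

/-- `P₀ = X B`, `P₁ ≤ C`; `Λ k` (`k : K`) the sets of the `h ∈ C` with `h e ≤ F_k` (`F_k` : the subspaces of the flag,
of dimension at least two), `Λ k₀` : the one of dimension two. -/
structure Plane {K : Type*} (C N X B P₀ P₁ : Subgroup G) (n : G) (Λ : K → Set G) (k₀ : K) : Prop where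
  BC : B ≤ C
  BN : B ≤ N
  XN : X ≤ N
  P₀_eq : P₀ = X ⊔ B
  BP₁ : B ≤ P₁
  P₁C : P₁ ≤ C
  nX : n ∈ X
  nC : n ∉ C
  NX : ∀ m ∈ N, ∃ x ∈ X, ∃ c ∈ C, m = x * c
  /-- `X` is 2-transitive on the points of `V` -/
  Xtr : ∀ x ∈ X, x ∉ C → ∃ a ∈ X ⊓ C, ∃ c ∈ C, x = a * n * c
  /-- two points are on at most one line -/
  two : ∀ g ∈ C, n⁻¹ * g * n ∈ C → g ∈ N
  ΛC : ∀ k, Λ k ⊆ C
  Λmul : ∀ k, ∀ h ∈ Λ k, ∀ m ∈ C, m ∈ N → h * m ∈ Λ k
  /-- the points of `F_k` are invariant under `X` -/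
  inv : ∀ k, ∀ x ∈ X, ∀ h ∈ Λ k, ∀ x' ∈ X, ∃ h' ∈ Λ k, ∃ x'' ∈ X, ∃ c ∈ C, x * (h * x') = h' * x'' * c
  ΛP₁ : ∀ k, ∀ p ∈ P₁, ∀ h ∈ Λ k, p * h ∈ Λ k
  one : (1 : G) ∈ Λ k₀
  /-- `P₁` is transitive on the points of `F₂` -/
  Λtr : ∀ h ∈ Λ k₀, ∃ p ∈ P₁, p⁻¹ * h ∈ N
  /-- `B` is the full stabiliser of the flag -/
  stab : ∀ g ∈ C, g ∈ N → (∀ k, ∀ h ∈ Λ k, g * h ∈ Λ k) → g ∈ B
  card : B.relIndex P₀ = B.relIndex P₁

namespace Plane

variable {K : Type*} {C N X B P₀ P₁ : Subgroup G} {n : G} {Λ : K → Set G} {k₀ : K}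
  (D : Plane C N X B P₀ P₁ n Λ k₀)

/-- the elements which move the base point to a point of `F_k` -/
def Pt (C X : Subgroup G) (L : Set G) : Set G := {g | ∃ h ∈ L, ∃ x ∈ X, ∃ c ∈ C, g = h * x * c}

theorem pt_mul {C X : Subgroup G} {L : Set G} {g c : G} (hg : g ∈ Pt C X L) (hc : c ∈ C) : g * c ∈ Pt C X L := by
  obtain ⟨h, hh, x, hx, c', hc', rfl⟩ := hg
  exact ⟨h, hh, x, hx, c' * c, mul_mem hc' hc, by group⟩

include D

theorem P₀N : P₀ ≤ N := by rw [D.P₀_eq]; exact sup_le D.XN D.BN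

theorem BP₀ : B ≤ P₀ := by rw [D.P₀_eq]; exact le_sup_right

theorem XP₀ : X ≤ P₀ := by rw [D.P₀_eq]; exact le_sup_left

theorem smul_pt (k : K) {g : G} (hg : g ∈ P₀ ⊔ P₁) : ∀ a ∈ Pt C X (Λ k), g * a ∈ Pt C X (Λ k) := by
  have hX : ∀ x ∈ X, ∀ a ∈ Pt C X (Λ k), x * a ∈ Pt C X (Λ k) := by
    rintro x hx _ ⟨h, hh, x', hx', c, hc, rfl⟩
    obtain ⟨h', hh', x'', hx'', c', hc', e⟩ := D.inv k x hx h hh x' hx'
    refine ⟨h', hh', x'', hx'', c' * c, mul_mem hc' hc, ?_⟩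
    calc x * (h * x' * c) = x * (h * x') * c := by group
      _ = h' * x'' * c' * c := by rw [e]
      _ = h' * x'' * (c' * c) := by group
  have hP : ∀ p ∈ P₁, ∀ a ∈ Pt C X (Λ k), p * a ∈ Pt C X (Λ k) := by
    rintro p hp _ ⟨h, hh, x', hx', c, hc, rfl⟩
    exact ⟨p * h, D.ΛP₁ k p hp h hh, x', hx', c, hc, by group⟩
  have hle : P₀ ⊔ P₁ = X ⊔ P₁ := by
    rw [D.P₀_eq, sup_assoc, sup_eq_right.2 D.BP₁]
  rw [hle, Subgroup.sup_eq_closure] at hg
  induction hg using Subgroup.closure_induction_left with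
  | one => intro a ha; rwa [one_mul]
  | mul_left a ha b hb ih =>
    intro z hz
    rw [mul_assoc]
    rcases ha with ha | ha
    · exact hX a ha _ (ih z hz)
    · exact hP a ha _ (ih z hz)
  | inv_mul_cancel a ha b hb ih =>
    intro z hz
    rw [mul_assoc]
    rcases ha with ha | ha
    · exact hX _ (inv_mem ha) _ (ih z hz)
    · exact hP _ (inv_mem ha) _ (ih z hz)

/-- an element of `C` which moves a point `≠ R` of `V` to a point of `V` lies in `N` -/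
theorem mem_N {g x : G} (hg : g ∈ C) (hx : x ∈ X) {c : G} (hc : c ∈ C) (e : g * n = x * c) : g ∈ N := by
  have hxC : x ∉ C := by
    intro hcon
    apply D.nC
    have e2 : n = g⁻¹ * (x * c) := by rw [← e]; group
    rw [e2]; exact mul_mem (inv_mem hg) (mul_mem hcon hc)
  obtain ⟨a, ha, c', hc', rfl⟩ := D.Xtr x hx hxC
  rw [mem_inf] at ha
  have h1 := D.two (a⁻¹ * g) (mul_mem (inv_mem ha.2) hg) (by
    have e2 : n⁻¹ * (a⁻¹ * g) * n = c' * c := by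
      calc n⁻¹ * (a⁻¹ * g) * n = n⁻¹ * a⁻¹ * (g * n) := by group
        _ = n⁻¹ * a⁻¹ * (a * n * c' * c) := by rw [e]
        _ = c' * c := by group
    rw [e2]; exact mul_mem hc' hc)
  have e3 : g = a * (a⁻¹ * g) := by group
  rw [e3]; exact mul_mem (D.XN ha.1) h1

/-- `(z, points of F_k)` determines `F_k` -/
theorem mem_of_pt (k : K) {g : G} (hg : g ∈ C) (hgn : g * n ∈ Pt C X (Λ k)) : g ∈ Λ k := by
  obtain ⟨h, hh, x, hx, c, hc, e⟩ := hgn
  have h1 : h⁻¹ * g ∈ N := by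
    apply D.mem_N (mul_mem (inv_mem (D.ΛC k hh)) hg) hx hc
    calc h⁻¹ * g * n = h⁻¹ * (g * n) := by group
      _ = h⁻¹ * (h * x * c) := by rw [e]
      _ = x * c := by group
  have := D.Λmul k h hh (h⁻¹ * g) (mul_mem (inv_mem (D.ΛC k hh)) hg) h1
  rwa [mul_inv_cancel_left] at this

theorem mem_B {g : G} (hg : g ∈ P₀ ⊔ P₁) (hC : g ∈ C) (hN : g ∈ N) : g ∈ B := by
  apply D.stab g hC hN
  intro k h hh
  apply D.mem_of_pt k (mul_mem hC (D.ΛC k hh))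
  have h1 : h * n ∈ Pt C X (Λ k) := ⟨h, hh, n, D.nX, 1, one_mem _, by group⟩
  rw [mul_assoc]
  exact D.smul_pt k hg _ h1

theorem mem_pt {g : G} (hg : g ∈ P₀ ⊔ P₁) : g ∈ Pt C X (Λ k₀) := by
  have h1 : (1 : G) ∈ Pt C X (Λ k₀) := ⟨1, D.one, 1, one_mem _, 1, one_mem _, by group⟩
  have := D.smul_pt k₀ hg _ h1
  rwa [mul_one] at this

/-- the lines through the base point -/
theorem line_base {g : G} (hg : g ∈ P₀ ⊔ P₁) (hC : g ∈ C) : ∃ p ∈ P₁, p⁻¹ * g ∈ N := by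
  have h1 := D.mem_pt (mul_mem hg (mem_sup_left (D.XP₀ D.nX)))
  exact D.Λtr g (D.mem_of_pt k₀ hC h1)

/-- join -/
theorem join {g : G} (hg : g ∈ P₀ ⊔ P₁) : ∃ p ∈ P₁, ∃ x ∈ X, ∃ c ∈ C, g = p * x * c := by
  obtain ⟨h, hh, x, hx, c, hc, rfl⟩ := D.mem_pt hg
  obtain ⟨p, hp, hm⟩ := D.Λtr h hh
  obtain ⟨x', hx', c', hc', e⟩ := D.NX _ (mul_mem hm (D.XN hx))
  refine ⟨p, hp, x', hx', c' * c, mul_mem hc' hc, ?_⟩
  calc h * x * c = p * (p⁻¹ * h * x) * c := by group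
    _ = p * (x' * c') * c := by rw [e]
    _ = _ := by group

omit D in
/-- the points -/
def pts (C Γ : Subgroup G) : Set (G ⧸ C) := {p | ∃ g ∈ Γ, p = (g : G ⧸ C)}

omit D in
/-- incidence -/
def inc (C N Γ : Subgroup G) (p : G ⧸ C) (l : G ⧸ N) : Prop := ∃ g ∈ Γ, p = (g : G ⧸ C) ∧ l = (g : G ⧸ N)

omit D in
theorem smul_mk {H : Subgroup G} (g x : G) : g • (x : G ⧸ H) = ((g * x : G) : G ⧸ H) := rfl

/-- a point `gC` on a line `hN`, brought into the form `g' x C`, `g' N`  -/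
theorem flags : Flags B P₀ P₁ (pts C (P₀ ⊔ P₁)) (pts N (P₀ ⊔ P₁)) (inc C N (P₀ ⊔ P₁)) ((1 : G) : G ⧸ C)
    ((1 : G) : G ⧸ N) where
  hp := ⟨1, one_mem _, rfl⟩
  hl := ⟨1, one_mem _, rfl⟩
  hpl := ⟨1, one_mem _, rfl, rfl⟩
  Bi := D.BP₀
  Bj := D.BP₁
  pts := by
    rintro g hg _ ⟨a, ha, rfl⟩
    refine ⟨g * a, mul_mem ?_ ha, rfl⟩
    exact hg.elim (fun h => mem_sup_left h) fun h => mem_sup_right h
  lns := by
    rintro g hg _ ⟨a, ha, rfl⟩
    refine ⟨g * a, mul_mem ?_ ha, rfl⟩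
    exact hg.elim (fun h => mem_sup_left h) fun h => mem_sup_right h
  inc' := by
    rintro g hg _ - _ - ⟨a, ha, rfl, rfl⟩
    refine ⟨g * a, mul_mem ?_ ha, rfl, rfl⟩
    exact hg.elim (fun h => mem_sup_left h) fun h => mem_sup_right h
  fixl g hg := by
    rw [smul_mk, mul_one, QuotientGroup.eq, mul_one]
    exact inv_mem (D.P₀N hg)
  fixp g hg := by
    rw [smul_mk, mul_one, QuotientGroup.eq, mul_one]
    exact inv_mem (D.P₁C hg)
  trp := by
    rintro _ - ⟨g, hg, rfl, h⟩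
    rw [QuotientGroup.eq, inv_one, one_mul] at h
    obtain ⟨x, hx, c, hc, rfl⟩ := D.NX g h
    refine ⟨x, D.XP₀ hx, ?_⟩
    rw [smul_mk, mul_one, QuotientGroup.eq, inv_mul_cancel_left]
    exact hc
  trl := by
    rintro _ - ⟨g, hg, h, rfl⟩
    rw [QuotientGroup.eq, inv_one, one_mul] at h
    obtain ⟨p, hp, hm⟩ := D.line_base hg h
    refine ⟨p, hp, ?_⟩
    rw [smul_mk, mul_one, QuotientGroup.eq]
    exact hm
  stab g hg h1 h2 := by
    rw [smul_mk, mul_one, QuotientGroup.eq, mul_one] at h1 h2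
    exact D.mem_B hg (by simpa using inv_mem h1) (by simpa using inv_mem h2)

/-- two points on a line -/
theorem pair {p p' : G ⧸ C} {l : G ⧸ N} (h : inc C N (P₀ ⊔ P₁) p l) (h' : inc C N (P₀ ⊔ P₁) p' l) (hne : p ≠ p') :
    ∃ g ∈ P₀ ⊔ P₁, p = (g : G ⧸ C) ∧ p' = ((g * n : G) : G ⧸ C) ∧ l = (g : G ⧸ N) := by
  obtain ⟨a, ha, rfl, rfl⟩ := h
  obtain ⟨b, hb, rfl, hl⟩ := h'
  rw [QuotientGroup.eq] at hl
  obtain ⟨x, hx, c, hc, e⟩ := D.NX _ hl
  have hxC : x ∉ C := by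
    intro hcon
    apply hne
    rw [QuotientGroup.eq, e]
    exact mul_mem hcon hc
  obtain ⟨u, hu, c', hc', rfl⟩ := D.Xtr x hx hxC
  rw [mem_inf] at hu
  refine ⟨a * u, mul_mem ha (mem_sup_left (D.XP₀ hu.1)), ?_, ?_, ?_⟩
  · rw [QuotientGroup.eq, inv_mul_cancel_left]; exact hu.2
  · rw [eq_comm, QuotientGroup.eq]
    have e2 : (a * u * n)⁻¹ * b = c' * c := by
      calc (a * u * n)⁻¹ * b = (u * n)⁻¹ * (a⁻¹ * b) := by group
        _ = (u * n)⁻¹ * (u * n * c' * c) := by rw [e]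
        _ = c' * c := by group
    rw [e2]; exact mul_mem hc' hc
  · rw [QuotientGroup.eq, inv_mul_cancel_left]; exact D.XN hu.1

theorem unique {p p' : G ⧸ C} (hne : p ≠ p') {l l' : G ⧸ N} (h1 : inc C N (P₀ ⊔ P₁) p l)
    (h2 : inc C N (P₀ ⊔ P₁) p' l) (h3 : inc C N (P₀ ⊔ P₁) p l') (h4 : inc C N (P₀ ⊔ P₁) p' l') : l = l' := by
  obtain ⟨a, ha, rfl, rfl, rfl⟩ := D.pair h1 h2 hne
  obtain ⟨b, hb, h5, h6, rfl⟩ := D.pair h3 h4 hne
  rw [QuotientGroup.eq] at h5 h6 ⊢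
  apply D.two _ h5
  have e : n⁻¹ * (a⁻¹ * b) * n = (a * n)⁻¹ * (b * n) := by group
  rw [e]; exact h6

theorem exists_line {p p' : G ⧸ C} (hp : p ∈ pts C (P₀ ⊔ P₁)) (hp' : p' ∈ pts C (P₀ ⊔ P₁)) :
    ∃ l ∈ pts N (P₀ ⊔ P₁), inc C N (P₀ ⊔ P₁) p l ∧ inc C N (P₀ ⊔ P₁) p' l := by
  obtain ⟨a, ha, rfl⟩ := hp
  obtain ⟨b, hb, rfl⟩ := hp'
  obtain ⟨q, hq, x, hx, c, hc, e⟩ := D.join (mul_mem (inv_mem ha) hb)
  have haq : a * q ∈ P₀ ⊔ P₁ := mul_mem ha (mem_sup_right hq)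
  refine ⟨((a * q : G) : G ⧸ N), ⟨_, haq, rfl⟩, ⟨a * q, haq, ?_, rfl⟩,
    ⟨a * q * x, mul_mem haq (mem_sup_left (D.XP₀ hx)), ?_, ?_⟩⟩
  · rw [QuotientGroup.eq, inv_mul_cancel_left]; exact D.P₁C hq
  · rw [eq_comm, QuotientGroup.eq]
    have e2 : (a * q * x)⁻¹ * b = c := by
      calc (a * q * x)⁻¹ * b = (q * x)⁻¹ * (a⁻¹ * b) := by group
        _ = (q * x)⁻¹ * (q * x * c) := by rw [e]
        _ = c := by group
    rw [e2]; exact hc
  · rw [QuotientGroup.eq, inv_mul_cancel_left]; exact D.XN hx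

/-- the number of the points on the base line -/
theorem card_points [Finite G] : {p | inc C N (P₀ ⊔ P₁) p ((1 : G) : G ⧸ N)}.ncard = B.relIndex P₀ := by
  classical
  let f : P₀ → G ⧸ C := fun g => ((g : G) : G ⧸ C)
  have hr : {p | inc C N (P₀ ⊔ P₁) p ((1 : G) : G ⧸ N)} = Set.range f := by
    ext p
    constructor
    · rintro ⟨g, hg, rfl, h⟩
      obtain ⟨x, hx, h⟩ := D.flags.trp (g : G ⧸ C) ⟨g, hg, rfl⟩ ⟨g, hg, rfl, h⟩
      exact ⟨⟨x, hx⟩, by rw [← h, smul_mk, mul_one]⟩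
    · rintro ⟨g, rfl⟩
      refine ⟨g, mem_sup_left g.2, rfl, ?_⟩
      rw [QuotientGroup.eq, inv_one, one_mul]; exact D.P₀N g.2
  rw [hr, Subgroup.relIndex, Subgroup.index, ← Nat.card_coe_set_eq]
  refine (Nat.card_congr (Equiv.ofBijective (Quotient.lift (fun g : P₀ => (⟨f g, g, rfl⟩ : Set.range f)) ?_)
    ⟨?_, ?_⟩)).symm
  · intro a b hab
    have hab : a⁻¹ * b ∈ B.subgroupOf P₀ := QuotientGroup.leftRel_apply.1 hab
    rw [Subgroup.mem_subgroupOf] at hab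
    exact Subtype.ext (QuotientGroup.eq.2 (D.BC hab))
  · intro a b
    induction a using QuotientGroup.induction_on with
    | H a =>
    induction b using QuotientGroup.induction_on with
    | H b =>
    intro h
    have h1 : f a = f b := congrArg Subtype.val h
    have h1 : (a : G)⁻¹ * b ∈ C := QuotientGroup.eq.1 h1
    rw [QuotientGroup.eq, Subgroup.mem_subgroupOf]
    exact D.mem_B (mem_sup_left (a⁻¹ * b : P₀).2) h1 (D.P₀N (a⁻¹ * b : P₀).2)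
  · rintro ⟨_, g, rfl⟩
    exact ⟨(g : P₀ ⧸ B.subgroupOf P₀), rfl⟩

/-- the number of the lines through the base point -/
theorem card_lines [Finite G] : {l | inc C N (P₀ ⊔ P₁) ((1 : G) : G ⧸ C) l}.ncard = B.relIndex P₁ := by
  classical
  let f : P₁ → G ⧸ N := fun g => ((g : G) : G ⧸ N)
  have hr : {l | inc C N (P₀ ⊔ P₁) ((1 : G) : G ⧸ C) l} = Set.range f := by
    ext p
    constructor
    · rintro ⟨g, hg, h, rfl⟩
      obtain ⟨x, hx, h⟩ := D.flags.trl (g : G ⧸ N) ⟨g, hg, rfl⟩ ⟨g, hg, h, rfl⟩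
      exact ⟨⟨x, hx⟩, by rw [← h, smul_mk, mul_one]⟩
    · rintro ⟨g, rfl⟩
      refine ⟨g, mem_sup_right g.2, ?_, rfl⟩
      rw [QuotientGroup.eq, inv_one, one_mul]; exact D.P₁C g.2
  rw [hr, Subgroup.relIndex, Subgroup.index, ← Nat.card_coe_set_eq]
  refine (Nat.card_congr (Equiv.ofBijective (Quotient.lift (fun g : P₁ => (⟨f g, g, rfl⟩ : Set.range f)) ?_)
    ⟨?_, ?_⟩)).symm
  · intro a b hab
    have hab : a⁻¹ * b ∈ B.subgroupOf P₁ := QuotientGroup.leftRel_apply.1 hab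
    rw [Subgroup.mem_subgroupOf] at hab
    exact Subtype.ext (QuotientGroup.eq.2 (D.BN hab))
  · intro a b
    induction a using QuotientGroup.induction_on with
    | H a =>
    induction b using QuotientGroup.induction_on with
    | H b =>
    intro h
    have h1 : f a = f b := congrArg Subtype.val h
    have h1 : (a : G)⁻¹ * b ∈ N := QuotientGroup.eq.1 h1
    rw [QuotientGroup.eq, Subgroup.mem_subgroupOf]
    exact D.mem_B (mem_sup_right (a⁻¹ * b : P₁).2) (D.P₁C (a⁻¹ * b : P₁).2) h1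
  · rintro ⟨_, g, rfl⟩
    exact ⟨(g : P₁ ⧸ B.subgroupOf P₁), rfl⟩

omit D in
theorem inc_smul {Γ : Subgroup G} {g : G} (hg : g ∈ Γ) {p : G ⧸ C} {l : G ⧸ N} :
    inc C N Γ (g • p) (g • l) ↔ inc C N Γ p l := by
  constructor
  · rintro ⟨a, ha, h1, h2⟩
    refine ⟨g⁻¹ * a, mul_mem (inv_mem hg) ha, ?_, ?_⟩
    · rw [← smul_mk, ← h1, inv_smul_smul]
    · rw [← smul_mk, ← h2, inv_smul_smul]
  · rintro ⟨a, ha, rfl, rfl⟩
    exact ⟨g * a, mul_mem hg ha, rfl, rfl⟩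

/-- the number of the lines through a point -/
theorem card_lines' [Finite G] {p : G ⧸ C} (hp : p ∈ pts C (P₀ ⊔ P₁)) :
    {l | inc C N (P₀ ⊔ P₁) p l}.ncard = B.relIndex P₁ := by
  obtain ⟨g, hg, rfl⟩ := hp
  rw [← D.card_lines]
  have e : {l : G ⧸ N | inc C N (P₀ ⊔ P₁) ((g : G) : G ⧸ C) l} =
      (fun l => g • l) '' {l | inc C N (P₀ ⊔ P₁) ((1 : G) : G ⧸ C) l} := by
    ext l
    constructor
    · intro h
      have h : inc C N (P₀ ⊔ P₁) ((g : G) : G ⧸ C) l := h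
      refine ⟨g⁻¹ • l, ?_, smul_inv_smul _ _⟩
      have h1 := (inc_smul (C := C) (N := N) (inv_mem hg)).2 h
      rw [smul_mk, inv_mul_cancel] at h1
      exact h1
    · rintro ⟨l, h, rfl⟩
      have h1 := (inc_smul (C := C) (N := N) hg).2 h
      rw [smul_mk, mul_one] at h1
      exact h1
  rw [e, Set.ncard_image_of_injective _ (MulAction.injective g)]

/-- two lines meet -/
theorem exists_point [Finite G] {l l' : G ⧸ N} (hl : l ∈ pts N (P₀ ⊔ P₁)) (hl' : l' ∈ pts N (P₀ ⊔ P₁)) :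
    ∃ p ∈ pts C (P₀ ⊔ P₁), inc C N (P₀ ⊔ P₁) p l ∧ inc C N (P₀ ⊔ P₁) p l' := by
  classical
  -- it is enough to consider the base line
  suffices hmain : ∀ l' ∈ pts N (P₀ ⊔ P₁), ∃ p ∈ pts C (P₀ ⊔ P₁),
      inc C N (P₀ ⊔ P₁) p ((1 : G) : G ⧸ N) ∧ inc C N (P₀ ⊔ P₁) p l' by
    obtain ⟨g, hg, rfl⟩ := hl
    obtain ⟨g', hg', rfl⟩ := hl'
    obtain ⟨p, ⟨a, ha, rfl⟩, h1, h2⟩ := hmain ((g⁻¹ * g' : G) : G ⧸ N) ⟨_, mul_mem (inv_mem hg) hg', rfl⟩
    refine ⟨g • (a : G ⧸ C), ⟨g * a, mul_mem hg ha, rfl⟩, ?_, ?_⟩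
    · have := (inc_smul (C := C) (N := N) hg).2 h1
      rwa [smul_mk (H := N), mul_one] at this
    · have := (inc_smul (C := C) (N := N) hg).2 h2
      rwa [smul_mk (H := N), mul_inv_cancel_left] at this
  rintro _ ⟨g, hg, rfl⟩
  set Γ := P₀ ⊔ P₁ with hΓ
  by_cases hon : inc C N Γ ((g : G) : G ⧸ C) ((1 : G) : G ⧸ N)
  · exact ⟨_, ⟨g, hg, rfl⟩, hon, ⟨g, hg, rfl, rfl⟩⟩
  -- the lines joining the point `g C` to the points of the base line
  have hch : ∀ z : {z | inc C N Γ z ((1 : G) : G ⧸ N)}, ∃ l ∈ pts N Γ, inc C N Γ (z : G ⧸ C) l ∧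
      inc C N Γ ((g : G) : G ⧸ C) l := by
    rintro ⟨z, a, ha, rfl, h⟩
    exact D.exists_line ⟨a, ha, rfl⟩ ⟨g, hg, rfl⟩
  choose F hF1 hF2 hF3 using hch
  have hinj : Function.Injective F := by
    rintro ⟨z, hz⟩ ⟨z', hz'⟩ h
    by_contra hne
    have hne : z ≠ z' := fun h => hne (Subtype.ext h)
    have h1 := hF2 ⟨z, hz⟩
    have h2 := hF2 ⟨z', hz'⟩
    rw [← h] at h2
    have h3 := D.unique hne h1 h2 hz hz'
    have h4 := hF3 ⟨z, hz⟩
    rw [h3] at h4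
    exact hon h4
  have hsub : Set.range F ⊆ {l | inc C N Γ ((g : G) : G ⧸ C) l} := by
    rintro _ ⟨z, rfl⟩
    exact hF3 z
  have hcard : (Set.range F).ncard = {l | inc C N Γ ((g : G) : G ⧸ C) l}.ncard := by
    rw [D.card_lines' ⟨g, hg, rfl⟩, ← D.card, ← D.card_points, ← Nat.card_coe_set_eq, ← Nat.card_coe_set_eq]
    exact (Nat.card_congr (Equiv.ofInjective F hinj)).symm
  have heq := Set.eq_of_subset_of_ncard_le hsub hcard.ge (Set.toFinite _)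
  have h1 : ((g : G) : G ⧸ N) ∈ {l | inc C N Γ ((g : G) : G ⧸ C) l} := ⟨g, hg, rfl, rfl⟩
  rw [← heq] at h1
  obtain ⟨⟨z, hz⟩, h2⟩ := h1
  have h3 := hF2 ⟨z, hz⟩
  rw [h2] at h3
  obtain ⟨a, ha, rfl, h4⟩ := hz
  exact ⟨_, ⟨a, ha, rfl⟩, ⟨a, ha, rfl, h4⟩, h3⟩

/-- **the residue `{0, 1}` is a projective plane** -/
theorem gpp [Finite G] {I : Type*} {P : I → Subgroup G} (hBP : ∀ i, B ≤ P i) {i j : I} (hij : i ≠ j) (hi : P i = P₀)
    (hj : P j = P₁) : GPp B P i j 3 ∧ GPp B P j i 3 := by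
  subst hi hj
  refine D.flags.gpp_three hBP hij ?_ ?_ ?_
  · intro p hp p' hp' _
    exact D.exists_line hp hp'
  · intro p _ p' _ hne l _ l' _ h1 h2 h3 h4
    exact D.unique hne h1 h2 h3 h4
  · intro l hl l' hl' _
    exact D.exists_point hl hl'

end Plane

end Cfsg.Agent.Omega.NO1U

end

section


/-!
# NO-1' (β), closing, residue `{0, 1}`: the instances of `Line` and `Plane`

`XD.line` : `Lam (span {e₀, m})` is a `Line`; `XD.invL` : the points of every totally isotropic `L ∋ e₀` are invariant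
under `X`; `XD.two` : two points are on at most one line; `XD.plane` : the structure `Plane`.
-/

set_option autoImplicit false
set_option linter.unusedVariables false
set_option linter.unusedSectionVars false

open Subgroup
open scoped Pointwise
open Cfsg.Agent.Omega.NO1.Beta.Meet Cfsg.Agent.Omega.NOne.SU

namespace Cfsg.Agent.Omega.NO1U

universe u

variable {G : Type u} [Group G] {k F : Type*} [Field k] [Field F] [Algebra k F] {T : Quad k F} {S : Sylow 2 G}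
  {I : Type*} {V : Subgroup G} {Rf Qf : I → Subgroup G} {i j : I} {v : k → F → k → G} {p p' : G → F}
  {Φ : Type*} [AddCommGroup Φ] [Module F Φ] {φ χ : G → Φ} {hm : Φ → Φ → F}
  {W : Type*} [AddCommGroup W] [Module F W] {w : G → W} {g : W → W → F} {f₀ : W} {ι : Φ →ₗ[F] W}

namespace XD

variable (D : XD T S V Rf Qf i j v p p' φ χ) (o : Out T V (Rf i) (Qf i) (Qf j) v p φ χ hm w g f₀ ι)
include D

theorem hpts : ∀ m ∈ normalizer (V : Set G), (∀ d, ∃ a, m * v 0 0 d * m⁻¹ = v a 0 0) ∨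
      ∃ y ∈ Qf i, ∀ d, ∃ d', m * v 0 0 d * m⁻¹ = y * v 0 0 d' * y⁻¹ := by
  intro m hm
  obtain ⟨l, h1, -⟩ := D.permN hm j
  by_cases hl : l = i
  · left
    intro d
    have h2 : m * v 0 0 d * m⁻¹ ∈ Rf l := by
      rw [← h1]
      exact conj_mem_cj ((D.Rj _).2 ⟨d, rfl⟩)
    rw [hl] at h2
    exact (GEnd.mem_R D.g _).1 h2
  · right
    obtain ⟨y, hy, h2⟩ := D.M.tran i j l D.ne.symm hl
    refine ⟨y, hy, fun d => ?_⟩
    have h3 : m * v 0 0 d * m⁻¹ ∈ Rf l := by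
      rw [← h1]
      exact conj_mem_cj ((D.Rj _).2 ⟨d, rfl⟩)
    rw [← h2, mem_cj] at h3
    obtain ⟨d', hd'⟩ := (D.Rj _).1 h3
    refine ⟨d', ?_⟩
    rw [← hd']; group

include o

/-- `X ∩ N(R)` preserves every subspace `L`, `e₀ ∈ L ≤ e₀^⊥` -/
theorem lam_X {L : Submodule F W} (hL : w (v 0 1 0) ∈ L) (hiso : ∀ x ∈ L, ∀ y ∈ L, g x y = 0) {x h : G}
    (hx : x ∈ Qf i ⊔ Qf j) (hxR : x ∈ normalizer (Rf i : Set G)) (hh : h ∈ Lam (Rf i) v w L) :
    x * h ∈ Lam (Rf i) v w L := by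
  refine ⟨mul_mem hxR hh.1, fun b => ?_⟩
  obtain ⟨s, -, hs⟩ := D.scal hx hxR
  set y := h * v 0 b 0 * h⁻¹ with hy
  have hyQ : y ∈ Qf i := D.g.nor h hh.1 _ (D.g.E_le 0 b)
  have hyL : w y ∈ L := hh.2 b
  have hyV : y ∈ centralizer (V : Set G) := (OutL.mem_CV_iff D.g o hyQ).2 (hiso _ hyL _ hL)
  obtain ⟨a, ha⟩ := o.φ_eq y hyQ hyV
  obtain ⟨h1, h2⟩ := hs y (mem_inf.2 ⟨hyQ, hyV⟩)
  obtain ⟨a', ha'⟩ := o.φ_eq _ h1.1 h1.2
  have e : x * h * v 0 b 0 * (x * h)⁻¹ = x * y * x⁻¹ := by rw [hy]; group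
  rw [e, ha', h2]
  have e2 : ι (φ y) = w y - a • w (v 0 1 0) := by rw [ha]; abel
  rw [map_smul, e2]
  exact add_mem (L.smul_mem _ (sub_mem hyL (L.smul_mem _ hL))) (L.smul_mem _ hL)

/-- **the instance of `Line`** -/
theorem line {n : G} (hn : cj n (Rf i) = Rf j) {m : W} (hme : g m (w (v 0 1 0)) = 0) (hmm : g m m = 0) :
    Line (Rf i) V (Qf i ⊔ Qf j) (Qf i) (YY V Qf i j) n (Lam (Rf i) v w (Submodule.span F {w (v 0 1 0), m})) := by
  have hL : w (v 0 1 0) ∈ Submodule.span F {w (v 0 1 0), m} := Submodule.subset_span (by simp)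
  have hem : g (w (v 0 1 0)) m = 0 := OutL.g_swap D.g o hme
  have hiso : ∀ x ∈ Submodule.span F {w (v 0 1 0), m}, ∀ y ∈ Submodule.span F {w (v 0 1 0), m}, g x y = 0 := by
    intro x hx y hy
    obtain ⟨a, b, rfl⟩ := Submodule.mem_span_pair.1 hx
    obtain ⟨a', b', rfl⟩ := Submodule.mem_span_pair.1 hy
    rw [o.g_add, OutL.g_add' D.g o, OutL.g_add' D.g o, OutL.g_smul' D.g o, OutL.g_smul' D.g o, OutL.g_smul' D.g o,
      OutL.g_smul' D.g o, o.g_smul, o.g_smul, o.g_smul, o.g_smul, o.g_ee, hme, hmm, hem]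
    ring
  have hYg := Yg_eq (i := i) (j := j) D.M D.ne
  refine ⟨OutL.lam_one D.g o hL, fun c hc => hc.1, fun h hh m hm hmN => OutL.lam_mul D.g o hh hm hmN,
    fun x hx hxR h hh => D.lam_X o hL hiso hx hxR hh, ?_, ?_, ?_, ?_⟩
  · intro h hh hN h' hh' hN'
    rw [← hYg]
    exact OutL.Ytr D.g o D.f hme hmm hh hN hh' hN'
  · intro h hh hN x hx
    exact OutL.cen D.g o hL hiso D.hpts hh hx
  · intro h hh hN u hu
    rw [← hYg]
    exact OutL.cov D.g o hL hiso hh hN hu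
  · intro h hh hN r hr hY
    have h1 : n * r * n⁻¹ ∈ Rf j := by
      rw [← hn]; exact conj_mem_cj hr
    obtain ⟨d, hd⟩ := (D.Rj _).1 h1
    rw [hd, ← hYg] at hY
    have h2 := OutL.disj D.g o hL hiso hh hN hY
    rw [h2, GEnd.v_zero D.g] at hd
    calc r = n⁻¹ * (n * r * n⁻¹) * n := by group
      _ = 1 := by rw [hd]; group

/-- **the points of `L` are invariant under `X`** -/
theorem invL [Finite G] {T₀ : Subgroup G} {n : G}
    (B : Base (Rf i) V (Qf i ⊔ Qf j) (Qf i) (YY V Qf i j) T₀ n) (hn : cj n (Rf i) = Rf j)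
    {L : Submodule F W} (hL : w (v 0 1 0) ∈ L) (hiso : ∀ x ∈ L, ∀ y ∈ L, g x y = 0) :
    ∀ x ∈ Qf i ⊔ Qf j, ∀ h ∈ Lam (Rf i) v w L, ∀ x' ∈ Qf i ⊔ Qf j, ∃ h' ∈ Lam (Rf i) v w L,
      ∃ x'' ∈ Qf i ⊔ Qf j, ∃ c ∈ normalizer (Rf i : Set G), x * (h * x') = h' * x'' * c := by
  intro x hx h hh x' hx'
  by_cases hN : h ∈ normalizer (V : Set G)
  · obtain ⟨x'', hx'', c, hc, e⟩ := B.NX _ (mul_mem (B.XN hx) (mul_mem hN (B.XN hx')))
    exact ⟨1, OutL.lam_one D.g o hL, x'', hx'', c, hc, by rw [e, one_mul]⟩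
  · obtain ⟨m, hmL, hne, h1, h2⟩ := OutL.pointL D.g o hL hiso hh hN
    have hle : Submodule.span F {w (v 0 1 0), m} ≤ L := by
      rw [Submodule.span_le]
      rintro z (rfl | rfl)
      · exact hL
      · exact hmL
    have hh' : h ∈ Lam (Rf i) v w (Submodule.span F {w (v 0 1 0), m}) := by
      refine ⟨hh.1, fun b => ?_⟩
      obtain ⟨s, hs⟩ := h1 b
      rw [hs]
      exact Submodule.smul_mem _ _ (Submodule.subset_span (by simp))
    have hl := D.line o hn (hiso m hmL _ hL) (hiso m hmL _ hmL)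
    obtain ⟨h', hh'', x'', hx'', c, hc, e⟩ := B.inv hl hx (g := h * x') ⟨h, hh', x', hx', 1, one_mem _, by group⟩
    exact ⟨h', ⟨hh''.1, fun b => hle (hh''.2 b)⟩, x'', hx'', c, hc, e⟩

/-- **two points are on at most one line** -/
theorem two {n : G} (hn : cj n (Rf i) = Rf j) {c : G} (hc : c ∈ normalizer (Rf i : Set G))
    (hc' : n⁻¹ * c * n ∈ normalizer (Rf i : Set G)) : c ∈ normalizer (V : Set G) := by
  have hcj : cj c (Rf j) = Rf j := by
    have h1 := cj_of_mem_normalizer hc'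
    calc cj c (Rf j) = cj (n * (n⁻¹ * c * n)) (Rf i) := by
          rw [← hn, ← cj_mul]; congr 1; group
      _ = Rf j := by rw [cj_mul, h1, hn]
  apply o.stab c hc
  obtain ⟨y, hy, hy1⟩ := D.g.p_surj 1
  have h1 := D.g.act y hy 0 0 1
  have h2 : c * v 0 0 1 * c⁻¹ ∈ Rf j := by
    rw [← hcj]; exact conj_mem_cj ((D.Rj _).2 ⟨1, rfl⟩)
  obtain ⟨d, hd⟩ := (D.Rj _).1 h2
  have hcy : c * y * c⁻¹ ∈ Qf i := D.g.nor c hc y hy
  have h3 := D.g.act _ hcy 0 0 d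
  -- `[y, v 0 0 1] = v a₀ 1 0`
  have e1 : y * v 0 0 1 * y⁻¹ * (v 0 0 1)⁻¹ = v (T.nm 1) 1 0 := by
    rw [h1, hy1, mul_inv_eq_iff_eq_mul, ← D.g.v_add]
    simp
  have e2 : c * y * c⁻¹ * v 0 0 d * (c * y * c⁻¹)⁻¹ * (v 0 0 d)⁻¹ =
      v (T.nm (p (c * y * c⁻¹)) * d) (p (c * y * c⁻¹) * algebraMap k F d) 0 := by
    rw [h3, mul_inv_eq_iff_eq_mul, ← D.g.v_add]
    simp
  have e3 : c * v (T.nm 1) 1 0 * c⁻¹ = v (T.nm (p (c * y * c⁻¹)) * d) (p (c * y * c⁻¹) * algebraMap k F d) 0 := by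
    rw [← e1, ← e2, ← hd]; group
  refine ⟨p (c * y * c⁻¹) * algebraMap k F d, ?_⟩
  rw [← OutL.w_conj_E D.g o hc (T.nm 1) 1, e3, OutL.w_E D.g o]

/-- every singular vector of `L` lies in some `h e₀`, `h ∈ Lam L` -/
theorem lam_vec {L : Submodule F W} {m : W} (hm0 : m ≠ 0) (hmL : m ∈ L) (hmm : g m m = 0) :
    ∃ h ∈ Lam (Rf i) v w L, ∃ b, w (h * v 0 b 0 * h⁻¹) = m := by
  obtain ⟨c, hc, h1, -, s, hs⟩ := o.tran m hm0 hmm
  have hcR := D.g.CR_le_NR hc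
  have h2 : ∀ b, w (c * v 0 b 0 * c⁻¹) = b • s • m := by
    intro b
    rw [← hs]
    exact h1 b _ (D.g.E_le 0 1) _ (D.g.E_le 0 b) (o.w_e b)
  have hs0 : s ≠ 0 := by
    rintro rfl
    obtain ⟨m', hm', h3, h4⟩ := OutL.point D.g o hcR
    obtain ⟨b, hb⟩ := h4 1
    rw [h2, one_smul, zero_smul, smul_zero] at hb
    exact hm' hb.symm
  refine ⟨c, ⟨hcR, fun b => ?_⟩, s⁻¹, ?_⟩
  · rw [h2]
    exact L.smul_mem _ (L.smul_mem _ hmL)
  · rw [h2, smul_smul, inv_mul_cancel₀ hs0, one_smul]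

/-- `c (Lam L) ≤ Lam L` means `c L ≤ L` -/
theorem lam_stab {L : Submodule F W} (hiso : ∀ x ∈ L, ∀ y ∈ L, g x y = 0) {c : G}
    (hc : c ∈ normalizer (Rf i : Set G)) : (∀ h ∈ Lam (Rf i) v w L, c * h ∈ Lam (Rf i) v w L) ↔
      ∀ y ∈ Qf i, w y ∈ L → w (c * y * c⁻¹) ∈ L := by
  constructor
  · intro h1 y hy hyL
    by_cases h0 : w y = 0
    · have h2 : w (c * y * c⁻¹) = w (c * 1 * c⁻¹) := by
        apply OutL.w_conj_congr D.g o hc hy (one_mem _)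
        rw [h0, OutL.w_one D.g o]
      have e : c * 1 * c⁻¹ = 1 := by group
      rw [h2, e, OutL.w_one D.g o]
      exact L.zero_mem
    · obtain ⟨h, hh, b, hb⟩ := D.lam_vec o h0 hyL (hiso _ hyL _ hyL)
      have h2 := (h1 h hh).2 b
      have e : c * h * v 0 b 0 * (c * h)⁻¹ = c * (h * v 0 b 0 * h⁻¹) * c⁻¹ := by group
      rw [e] at h2
      rwa [OutL.w_conj_congr D.g o hc hy (D.g.nor h hh.1 _ (D.g.E_le 0 b)) hb.symm]
  · intro h1 h hh
    refine ⟨mul_mem hc hh.1, fun b => ?_⟩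
    have e : c * h * v 0 b 0 * (c * h)⁻¹ = c * (h * v 0 b 0 * h⁻¹) * c⁻¹ := by group
    rw [e]
    exact h1 _ (D.g.nor h hh.1 _ (D.g.E_le 0 b)) (hh.2 b)

/-- **the instance of `Plane`**: `Lk k` (`k : K`) = the subspaces `F_2, ..., F_m` of the flag, `Lk k₀ = F_2` -/
theorem plane [Finite G] {K : Type*} {Lk : K → Submodule F W} {k₀ : K} {B P₀ P₁ : Subgroup G}
    (hL : ∀ k, w (v 0 1 0) ∈ Lk k) (hiso : ∀ k, ∀ x ∈ Lk k, ∀ y ∈ Lk k, g x y = 0)
    (hBC : B ≤ normalizer (Rf i : Set G)) (hBV : B ≤ normalizer (V : Set G))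
    (hP₀ : P₀ = (Qf i ⊔ Qf j) ⊔ B) (hBP₁ : B ≤ P₁) (hP₁C : P₁ ≤ normalizer (Rf i : Set G))
    (hP₁L : ∀ k, ∀ c ∈ P₁, ∀ y ∈ Qf i, w y ∈ Lk k → w (c * y * c⁻¹) ∈ Lk k)
    (htr : ∀ h ∈ Lam (Rf i) v w (Lk k₀), ∃ c ∈ P₁, c⁻¹ * h ∈ normalizer (V : Set G))
    (hst : ∀ c ∈ normalizer (Rf i : Set G), c ∈ normalizer (V : Set G) →
      (∀ k, ∀ y ∈ Qf i, w y ∈ Lk k → w (c * y * c⁻¹) ∈ Lk k) → c ∈ B)
    (hcard : B.relIndex P₀ = B.relIndex P₁) :
    ∃ n, Plane (normalizer (Rf i : Set G)) (normalizer (V : Set G)) (Qf i ⊔ Qf j) B P₀ P₁ n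
      (fun k => Lam (Rf i) v w (Lk k)) k₀ := by
  obtain ⟨T₀, n, Bs, hn, -⟩ := D.exists_base o
  refine ⟨n, ?_⟩
  exact
    { BC := hBC
      BN := hBV
      XN := Bs.XN
      P₀_eq := hP₀
      BP₁ := hBP₁
      P₁C := hP₁C
      nX := Bs.nX
      nC := Bs.nC
      NX := Bs.NX
      Xtr := fun x hx hxC => by
        obtain ⟨u, hu, h⟩ := Bs.Qtr x hx hxC
        exact ⟨u, mem_inf.2 ⟨Bs.QX hu, Bs.QC hu⟩, _, h, by group⟩
      two := fun c hc hc' => D.two o hn hc hc'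
      ΛC := fun k h hh => hh.1
      Λmul := fun k h hh m hm hmN => OutL.lam_mul D.g o hh hm hmN
      inv := fun k => D.invL o Bs hn (hL k) (hiso k)
      ΛP₁ := fun k c hc h hh => (D.lam_stab o (hiso k) (hP₁C hc)).2 (hP₁L k c hc) h hh
      one := OutL.lam_one D.g o (hL k₀)
      Λtr := htr
      stab := fun c hc hcV h => hst c hc hcV fun k => (D.lam_stab o (hiso k) hc).1 (h k)
      card := hcard }

end XD

end Cfsg.Agent.Omega.NO1U

end

section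


/-!
# The C-side of NO-1' (β) and node 0

For `P : Pol (N(R)) |k| sg g rho sigma m fl` with `fl 1 = F e₀`, `B = fst ∅`, `P j = fst {j}`, `U = Un`:

* `nd : Nd V Rf Qf i j B U`; `fst_le_N` : `fst J ≤ N(V)` if `1 ∉ J`;
* `gpp01`, `gpp10` : the residue `(0, 1)` is a projective plane;
* `finrank_W : dim W = dim Φ + 2`.
-/

set_option autoImplicit false
set_option linter.unusedVariables false
set_option linter.unusedSectionVars false

open Subgroup Module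
open Cfsg.Agent.Omega.NO1.Beta.Meet Cfsg.Agent.Omega.NOne.SU Cfsg.Agent.ParSys.Polar.Flags
open Cfsg.Agent.ParSys.Polar.Hermit Cfsg.Agent.ParSys.Polar.Unip Cfsg.Agent.ParSys.RankTwo

namespace Cfsg.Agent.Omega.NO1U.CSide

universe u

variable {G : Type u} [Group G] {k F : Type*} [Field k] [Field F] [Algebra k F] {T : Quad k F}
  {S : Sylow 2 G} {I : Type*} {V : Subgroup G} {Rf Qf : I → Subgroup G} {i j : I}
  {v : k → F → k → G} {p p' : G → F}
  {Φ : Type*} [AddCommGroup Φ] [Module F Φ] {φ χ : G → Φ} {hm : Φ → Φ → F}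
  {W : Type*} [AddCommGroup W] [Module F W] {w : G → W} {g : W → W → F} {f₀ : W} {ι : Φ →ₗ[F] W}

variable (D : XD T S V Rf Qf i j v p p' φ χ) (o : Out T V (Rf i) (Qf i) (Qf j) v p φ χ hm w g f₀ ι)

/-- `dim W = dim Φ + 2` -/
theorem finrank_W (D : XD T S V Rf Qf i j v p p' φ χ)
    (o : Out T V (Rf i) (Qf i) (Qf j) v p φ χ hm w g f₀ ι) [Module.Finite F Φ] :
    finrank F W = finrank F Φ + 2 := by
  have H := herm D.g o
  let L : (F × Φ × F) →ₗ[F] W :=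
    { toFun := fun z => z.1 • w (v 0 1 0) + ι z.2.1 + z.2.2 • f₀
      map_add' := fun a b => by
        show (a.1 + b.1) • w (v 0 1 0) + ι (a.2.1 + b.2.1) + (a.2.2 + b.2.2) • f₀ = _
        rw [add_smul, map_add, add_smul]; abel
      map_smul' := fun s a => by
        show (s * a.1) • w (v 0 1 0) + ι (s • a.2.1) + (s * a.2.2) • f₀ = _
        rw [mul_smul, map_smul, mul_smul, ← smul_add, ← smul_add]; rfl }
  have hL : ∀ z, L z = z.1 • w (v 0 1 0) + ι z.2.1 + z.2.2 • f₀ := fun z => rfl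
  have fe : g f₀ (w (v 0 1 0)) = 1 := by rw [o.g_sym, o.g_ef, map_one]
  have ιe : ∀ u, g (ι u) (w (v 0 1 0)) = 0 := fun u => by rw [o.g_sym, o.g_eι, map_zero]
  have ιf : ∀ u, g (ι u) f₀ = 0 := fun u => by rw [o.g_sym, o.g_fι, map_zero]
  have hinj : Function.Injective L := by
    rw [← LinearMap.ker_eq_bot, LinearMap.ker_eq_bot']
    rintro ⟨a, u, b⟩ hz
    rw [hL] at hz
    change a • w (v 0 1 0) + ι u + b • f₀ = 0 at hz
    have h1 : g (a • w (v 0 1 0) + ι u + b • f₀) (w (v 0 1 0)) = b := by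
      rw [o.g_add, o.g_add, o.g_smul, o.g_smul, o.g_ee, ιe, fe]; ring
    have h3 : g (a • w (v 0 1 0) + ι u + b • f₀) f₀ = a := by
      rw [o.g_add, o.g_add, o.g_smul, o.g_smul, o.g_ef, ιf, o.g_ff]; ring
    rw [hz, H.zero_l] at h1 h3
    have hu : u = 0 := o.hm_nondeg u fun u' => by
      rw [← h1, ← h3, zero_smul, zero_smul, zero_add, add_zero] at hz
      rw [← o.g_ιι, hz, H.zero_l]
    rw [hu, ← h1, ← h3]; rfl
  have hsur : Function.Surjective L := by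
    intro z
    obtain ⟨a, x, b, rfl⟩ := o.span z
    exact ⟨(a, x, b), rfl⟩
  have h1 := (LinearEquiv.ofBijective L ⟨hinj, hsur⟩).finrank_eq
  rw [← h1, finrank_prod, finrank_prod, finrank_self]
  ring

section pol

variable {sigma : ↥(normalizer (Rf i : Set G)) →* Equiv.Perm (Submodule F W)} {m : ℕ}
  {fl : ℕ → Submodule F W}
  (P : Pol (normalizer (Rf i : Set G)) (Nat.card k) (sgR T) g (rho D.g o) sigma m fl)
  (hf1 : fl 1 = F ∙ w (v 0 1 0)) (hm1 : 1 ≤ m)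

include D o P hf1

theorem mem_N_of_fix {c : ↥(normalizer (Rf i : Set G))} (hc : sigma c (fl 1) = fl 1) :
    (c : G) ∈ normalizer (V : Set G) := by
  have h1 : rho D.g o c (w (v 0 1 0)) ∈ sigma c (fl 1) :=
    P.A.mem (by rw [hf1]; exact Submodule.mem_span_singleton_self _)
  rw [hc, hf1] at h1
  obtain ⟨s, hs⟩ := Submodule.mem_span_singleton.1 h1
  rw [rho_w D.g o c (D.g.E_le 0 1)] at hs
  exact o.stab c c.2 ⟨s, hs.symm⟩

omit hf1 in
theorem rho_pt {c : ↥(normalizer (Rf i : Set G))} (hN : (c : G) ∈ normalizer (V : Set G)) (b : F) :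
    ∃ b' : F, rho D.g o c (b • w (v 0 1 0)) = b' • w (v 0 1 0) := by
  obtain ⟨a, b', he⟩ := OutL.N_e₀ D.g o c.2 hN b
  refine ⟨b', ?_⟩
  rw [← o.w_e b, rho_w D.g o c (D.g.E_le 0 b), he, OutL.w_E D.g o]

variable [FiniteDimensional F W]

theorem fix_of_mem_N {c : ↥(normalizer (Rf i : Set G))} (hN : (c : G) ∈ normalizer (V : Set G)) :
    sigma c (fl 1) = fl 1 := by
  have := P.finF
  apply eq_of_rk
  · intro z hz
    obtain ⟨x, hx, rfl⟩ := (P.A.sig _ _ _).1 hz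
    rw [hf1] at hx ⊢
    obtain ⟨b, rfl⟩ := Submodule.mem_span_singleton.1 hx
    obtain ⟨b', hb⟩ := rho_pt D o P hN b
    rw [hb]
    exact Submodule.smul_mem _ _ (Submodule.mem_span_singleton_self _)
  · exact P.A.card_eq _ _

include hm1

/-- `fst J ≤ N(V)` if `1 ∉ J` -/
theorem fst_le_N {J : Set ℕ} (hJ : 1 ∉ J) :
    fst (normalizer (Rf i : Set G)) sigma m fl J ≤ normalizer (V : Set G) :=
  fun x hx => mem_N_of_fix D o P hf1 (c := ⟨x, hx.1⟩) (hx.2 1 hm1 hJ)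

omit hf1 hm1 in
theorem fix_of_le {c : ↥(normalizer (Rf i : Set G))} {X : Submodule F W}
    (h : ∀ x ∈ X, rho D.g o c x ∈ X) : sigma c X = X := by
  have := P.finF
  apply eq_of_rk
  · intro z hz
    obtain ⟨x, hx, rfl⟩ := (P.A.sig _ _ _).1 hz
    exact h x hx
  · exact P.A.card_eq _ _

theorem mem_B {c : G} (hc : c ∈ normalizer (Rf i : Set G)) (hN : c ∈ normalizer (V : Set G))
    (h : ∀ d, 2 ≤ d → d ≤ m → ∀ y ∈ Qf i, w y ∈ fl d → w (c * y * c⁻¹) ∈ fl d) :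
    c ∈ fst (normalizer (Rf i : Set G)) sigma m fl ∅ := by
  refine ⟨hc, fun d hd _ => ?_⟩
  rcases Nat.lt_or_ge d 2 with h2 | h2
  · rcases Nat.lt_or_ge d 1 with h3 | h3
    · obtain rfl : d = 0 := by omega
      refine fix_of_le D o P fun x hx => ?_
      rw [P.hf.zero, Submodule.mem_bot] at hx ⊢
      rw [hx, map_zero]
    · obtain rfl : d = 1 := by omega
      exact fix_of_mem_N D o P hf1 hN
  · refine fix_of_le D o P fun x hx => ?_
    obtain ⟨y, hy, rfl⟩ := o.w_surj x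
    rw [rho_w D.g o _ hy]
    exact h d h2 hd y hy hx

/-- `X ∩ N(R) ≤ B` -/
theorem XB : (Qf i ⊔ Qf j) ⊓ normalizer (Rf i : Set G) ≤ fst (normalizer (Rf i : Set G)) sigma m fl ∅ := by
  intro x hx'
  obtain ⟨hx, hxR⟩ := mem_inf.1 hx'
  have hxV : x ∈ normalizer (V : Set G) := XD.X_le_N D.M hx
  obtain ⟨s, hs, hsc⟩ := D.scal hx hxR
  refine mem_B D o P hf1 hm1 hxR hxV fun d hd2 hd y hy hyd => ?_
  have heL : w (v 0 1 0) ∈ fl d := P.hf.le (a := 1) (by omega) hd (by rw [hf1]; exact Submodule.mem_span_singleton_self _)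
  have h0 : g (w y) (w (v 0 1 0)) = 0 :=
    P.hf.sing _ (P.hf.le hd le_rfl hyd) _ (P.hf.le hd le_rfl heL)
  have hyV : y ∈ centralizer (V : Set G) := (OutL.mem_CV_iff D.g o hy).2 h0
  obtain ⟨h1, h2⟩ := hsc y (mem_inf.2 ⟨hy, hyV⟩)
  obtain ⟨a, ha⟩ := o.φ_eq y hy hyV
  obtain ⟨a', ha'⟩ := o.φ_eq _ (mem_inf.1 h1).1 (mem_inf.1 h1).2
  have h3 : ι (φ y) ∈ fl d := by
    have h4 : ι (φ y) = w y - a • w (v 0 1 0) := by rw [ha]; abel
    rw [h4]
    exact Submodule.sub_mem _ hyd (Submodule.smul_mem _ _ heL)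
  rw [ha', h2, map_smul]
  exact Submodule.add_mem _ (Submodule.smul_mem _ _ h3) (Submodule.smul_mem _ _ heL)

/-- **the data at node 0** -/
theorem nd : Nd V Rf Qf i j (fst (normalizer (Rf i : Set G)) sigma m fl ∅) (Un P.A m fl) where
  BR := fst_le
  BV := fst_le_N D o P hf1 hm1 (Set.notMem_empty 1)
  XB := XB D o P hf1 hm1
  UB := un_le P.A
  nor := fun b hb u hu => P.clo le_rfl hm1 u hu b (fst_mono (Set.empty_subset _) hb)
    (mul_mem (mul_mem (inv_mem hb) (un_le P.A hu)) hb)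
  YU := by
    refine sup_le ?_ ?_
    · intro x hx
      have hxQ := (mem_inf.1 hx).1
      exact ⟨Q_le D.g hxQ, P.isUn_triv fun m => rho_Q D.g o hxQ _ m⟩
    · intro x hx
      obtain ⟨hxQ, hxV⟩ := mem_inf.1 hx
      have hxR : x ∈ normalizer (Rf i : Set G) := D.g.CR_le_NR (D.g.CV_le_CR hxV)
      obtain ⟨r, hr, hact⟩ := o.χ_act x hxQ hxV
      refine ⟨hxR, P.isUn_siegel (i := 1) (y := w (v 0 1 0)) (w := ι (χ x)) (a := r) hm1
        (by rw [hf1]; exact Submodule.mem_span_singleton_self _) ?_ (by rw [sgR_apply, hr, o.g_ιι]) ?_⟩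
      · rw [hf1, P.H.mem_perp_span, o.g_sym, o.g_eι, map_zero]
      · intro m
        obtain ⟨y, hy, rfl⟩ := o.w_surj m
        rw [rho_w D.g o _ hy]
        exact hact y hy
  UQ := by
    rintro u ⟨huR, hu⟩
    have huV : u ∈ normalizer (V : Set G) := mem_N_of_fix D o P hf1 (hu.fix 1 hm1)
    have H := P.H
    have he : rho D.g o ⟨u, huR⟩ (w (v 0 1 0)) = w (v 0 1 0) := by
      have h1 := hu.step 0 (by omega) (w (v 0 1 0)) (by
        show _ ∈ fl 1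
        rw [hf1]; exact Submodule.mem_span_singleton_self _)
      rw [P.hf.zero, Submodule.mem_bot, sub_eq_zero] at h1
      exact h1
    refine D.mem_QC huV ?_ ?_ ?_
    · rw [mem_centralizer_iff]
      intro r hr
      obtain ⟨a, rfl⟩ := D.g.mem_R.1 hr
      obtain ⟨x₀, hx₀⟩ := T.exists_tr_ne D.g.h2
      obtain ⟨y, hy, hyf⟩ := o.w_surj f₀
      have h1 : T.tr ((a / T.tr x₀) • x₀) = a := by
        rw [map_smul, smul_eq_mul, div_mul_cancel₀ _ hx₀]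
      set b := (a / T.tr x₀) • x₀
      have h2 := o.comm _ (D.g.E_le 0 b) y hy
      rw [o.w_e, hyf, o.g_smul, o.g_ef, mul_one, h1] at h2
      have h3 := o.comm _ (D.g.nor u huR _ (D.g.E_le 0 b)) _ (D.g.nor u huR _ hy)
      have e1 : w (u * v 0 b 0 * u⁻¹) = rho D.g o ⟨u, huR⟩ (w (v 0 b 0)) :=
        (rho_w D.g o ⟨u, huR⟩ (D.g.E_le 0 b)).symm
      have e2 : w (u * y * u⁻¹) = rho D.g o ⟨u, huR⟩ (w y) := (rho_w D.g o ⟨u, huR⟩ hy).symm
      rw [e1, e2, hu.iso, o.w_e, hyf, o.g_smul, o.g_ef, mul_one, h1] at h3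
      have h4 : u * v a 0 0 * u⁻¹ = v a 0 0 := by
        calc u * v a 0 0 * u⁻¹ = u * (v 0 b 0 * y * (v 0 b 0)⁻¹ * y⁻¹) * u⁻¹ := by rw [h2]
          _ = (u * v 0 b 0 * u⁻¹) * (u * y * u⁻¹) * (u * v 0 b 0 * u⁻¹)⁻¹ * (u * y * u⁻¹)⁻¹ := by group
          _ = v a 0 0 := h3
      calc v a 0 0 * u = (u * v a 0 0 * u⁻¹) * u := by rw [h4]
        _ = u * v a 0 0 := by group
    · intro b
      obtain ⟨a, b', hb⟩ := OutL.N_e₀ D.g o huR huV b
      refine ⟨a, ?_⟩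
      have h1 := rho_w D.g o ⟨u, huR⟩ (D.g.E_le 0 b)
      rw [o.w_e b, hu.lin, he] at h1
      change b • w (v 0 1 0) = w (u * v 0 b 0 * u⁻¹) at h1
      rw [hb, OutL.w_E D.g o a b'] at h1
      have h2 : (b - b') • w (v 0 1 0) = 0 := by rw [sub_smul, h1, sub_self]
      rcases smul_eq_zero.1 h2 with h3 | h3
      · rw [hb, sub_eq_zero.1 h3]
      · exact absurd h3 (OutL.e₀_ne D.g o)
    · intro y hy
      rw [o.p_eq _ (D.g.nor u huR _ hy), o.p_eq y hy]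
      have e2 : w (u * y * u⁻¹) = rho D.g o ⟨u, huR⟩ (w y) := (rho_w D.g o ⟨u, huR⟩ hy).symm
      have e3 : g (rho D.g o ⟨u, huR⟩ (w y)) (rho D.g o ⟨u, huR⟩ (w (v 0 1 0))) = g (w y) (w (v 0 1 0)) :=
        hu.iso _ _
      rw [he] at e3
      rw [e2, e3]

/-- `P_1` is transitive on the points of `fl 2` -/
theorem htr {h : G} (hh : h ∈ Lam (Rf i) v w (fl 2)) :
    ∃ c ∈ fst (normalizer (Rf i : Set G)) sigma m fl {1}, c⁻¹ * h ∈ normalizer (V : Set G) := by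
  obtain ⟨hR, hb⟩ := hh
  have hX : sigma ⟨h, hR⟩ (fl 1) ∈ Cfsg.Agent.ParSys.Polar.Flags.Pan (TI g) m fl 1 := by
    refine ⟨P.act.sing _ (P.hf.si P.polSp hm1), by rw [P.act.rk, P.hf.rk 1 hm1], fun d hd => ?_, fun _ => ?_⟩
    · obtain rfl : d = 0 := by omega
      rw [P.hf.zero]; exact bot_le
    · intro z hz
      obtain ⟨x, hx, rfl⟩ := (P.A.sig _ _ _).1 hz
      rw [hf1] at hx
      obtain ⟨b, rfl⟩ := Submodule.mem_span_singleton.1 hx
      rw [← o.w_e b, rho_w D.g o _ (D.g.E_le 0 b)]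
      exact hb b
  obtain ⟨c, hc, hc1⟩ := exists_pan P.polSp P.act P.hf hm1 hX
  refine ⟨c, hc, ?_⟩
  have h1 : sigma (c⁻¹ * ⟨h, hR⟩) (fl 1) = fl 1 := by
    rw [map_mul, Equiv.Perm.mul_apply, ← hc1, map_inv]
    exact (sigma c).symm_apply_apply _
  exact mem_N_of_fix D o P hf1 h1

/-- **the residue `(0, 1)`** -/
theorem gpp01 [Finite G] (hm2 : 2 ≤ m) {J : Type*} {PP : J → Subgroup G} {a b : J} (hab : a ≠ b)
    (hBP : ∀ c, fst (normalizer (Rf i : Set G)) sigma m fl ∅ ≤ PP c)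
    (ha : PP a = (Qf i ⊔ Qf j) ⊔ fst (normalizer (Rf i : Set G)) sigma m fl ∅)
    (hb : PP b = fst (normalizer (Rf i : Set G)) sigma m fl {1}) :
    GPp (fst (normalizer (Rf i : Set G)) sigma m fl ∅) PP a b 3 ∧
      GPp (fst (normalizer (Rf i : Set G)) sigma m fl ∅) PP b a 3 := by
  have E := nd D o P hf1 hm1
  obtain ⟨n, hn⟩ := D.plane o (K := {d : ℕ // 2 ≤ d ∧ d ≤ m}) (Lk := fun d => fl d) (k₀ := ⟨2, le_rfl, hm2⟩)
    (B := fst (normalizer (Rf i : Set G)) sigma m fl ∅)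
    (P₀ := (Qf i ⊔ Qf j) ⊔ fst (normalizer (Rf i : Set G)) sigma m fl ∅)
    (P₁ := fst (normalizer (Rf i : Set G)) sigma m fl {1})
    (fun d => P.hf.le (a := 1) (by have := d.2.1; omega) d.2.2 (by
      rw [hf1]; exact Submodule.mem_span_singleton_self _))
    (fun d x hx y hy => P.hf.sing x (P.hf.le d.2.2 le_rfl hx) y (P.hf.le d.2.2 le_rfl hy))
    E.BR E.BV rfl (fst_mono (Set.empty_subset _)) fst_le
    (fun d c hc y hy hyd => by
      have h1 : sigma ⟨c, hc.1⟩ (fl d) = fl d := hc.2 d d.2.2 (by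
        rw [Set.mem_singleton_iff]; have := d.2.1; omega)
      have h2 := P.A.mem (c := ⟨c, hc.1⟩) hyd
      rw [h1, rho_w D.g o _ hy] at h2
      exact h2)
    (fun h hh => htr D o P hf1 hm1 hh)
    (fun c hc hcV h => mem_B D o P hf1 hm1 hc hcV fun d h2 hd y hy hyd => h ⟨d, h2, hd⟩ y hy hyd)
    (by rw [Nd.card D E, P.relIndex_lt le_rfl (by omega)])
  exact hn.gpp hBP hab ha hb

end pol

end Cfsg.Agent.Omega.NO1U.CSide

end
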